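import Cfsg.Agent.SM.Ti.Box
import Cfsg.Agent.H762.Ppd.PsuAux_m3
import Cfsg.Agent.H65.Disp.Rgd
import Cfsg.Agent.H905.Sp4Main
import Cfsg.Agent.H2.Ppd.Exc
import Cfsg.Agent.H650.Ppd.Psl_m3
import Cfsg.Agent.H100.Ppd.StructC_m3
import Cfsg.Agent.H69.Ppd.Psu6Aux
import Cfsg.Agent.H708.ReeSix_m3
import Cfsg.Agent.H909.PpdReeB_m3
import Cfsg.Agent.H953.Index
import Cfsg.Agent.S0245
import Cfsg.Agent.S0292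
import Cfsg.Agent.S0293
import Cfsg.Agent.S0294
import Cfsg.Agent.S1059
import Cfsg.Agent.S1067
import Cfsg.Agent.S1068
import Cfsg.Agent.H650.Ppd.Psp_m3
import Cfsg.Agent.H965.XZ.IdxD
import Cfsg.Agent.FastGrp
import Cfsg.Agent.Prune
set_option linter.all false

section
prune_inst 0x7ffffdf8fbb935dfffff7e7ffedddffff9bd1fffefdff943ffe861ef8bdf631a89e5fbad0fe010ff1ee3621410b87853fb7eeeffe26fdc7ffffdfff45ffbee5ff7ffbd0811d78c340f3e0fff93f0778e7f3fffffffffffffffffffffffffffbeffbfffffffff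

-- part: SM/Ti/Big
section
prune_inst 0x40004c80000000000002200000402200000000430000414101000888046100002601b0100211490880a44038004811100089021000000000000041180080000106008108a008000006000800000000000000000000000000000000000004000000000
set_option linter.all false
open scoped Cfsg.Agent.FastGrp

/-!
# S3570, tight cores: the big cell (helper69)

`R` a root group datum of `Y` with commutative torus, `φ : Y → GL_n(F)` with image a tight core `P`, `J` the type of the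
module.

* **`Tc.big`** : `|Y : P_J| = (1 + p ^ s) th |F| m` with `s ≥ 1`, `|Y : P_J|` divides `|Soc P|`, and `w₀` normalises `W_J`.
-/

set_option autoImplicit false
set_option linter.unusedSectionVars false

namespace Cfsg.Agent.SM.Ti

open CoxeterSystem Cfsg.Agent.ChevalleyStructure.CoxeterGeom Cfsg.Agent.Tits.Roots Cfsg.Agent.Tits.Core
  Cfsg.Agent.Tits.Exchange Cfsg.Agent.Nodes.Reps Cfsg.Agent.Nodes.BNOf Cfsg.Agent.Nodes.StabComb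
  Cfsg.Agent.Nodes.Bruhat Cfsg.Agent.Nodes.OppDec Cfsg.Agent.Nodes.LeviDec Cfsg.Agent.KFacts.RgdOpp
  Cfsg.Agent.Omega.CR Cfsg.Agent.Omega.FOne.Lift.Sd Cfsg.Agent.H911 Cfsg.Agent.H905.Md Cfsg.Agent.H156.Ppd
open Cfsg Cfsg.Geo Projectivization
open Cfsg.Agent.H915.LD Cfsg.Agent.H100.Ppd
open scoped MatrixGroups Matrix LinearAlgebra.Projectivization Pointwise

universe u

theorem num_big {p a m N t : ℕ} (hp : p.Prime) (ha : 0 < a) (hm : 0 < m) (hN : N ≡ 1 [MOD p])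
    (h : N * (p ^ a) ^ (m - 1) = th (p ^ a) m * ((p ^ a) ^ (m - 1) + p ^ t)) :
    ∃ s, 1 ≤ s ∧ N = (1 + p ^ s) * th (p ^ a) m := by
  have hth : th (p ^ a) m ≡ 1 [MOD p] := by
    obtain ⟨k, rfl⟩ : ∃ k, m = k + 1 := ⟨m - 1, by omega⟩
    rw [th_succ']
    have h1 : p ^ a * th (p ^ a) k ≡ 0 [MOD p] :=
      (Nat.modEq_zero_iff_dvd).2 ((dvd_pow_self p ha.ne').mul_right _)
    simpa using h1.add_right 1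
  have h1 : ¬ p ∣ th (p ^ a) m := fun h2 => by
    have h3 := ((Nat.modEq_zero_iff_dvd).2 h2).symm.trans hth
    exact hp.one_lt.ne' (Nat.dvd_one.1 ((Nat.modEq_zero_iff_dvd).1 h3.symm))
  rw [← pow_mul] at h
  set e := a * (m - 1) with he
  rcases Nat.lt_or_ge t e with h2 | h2
  · exfalso
    obtain ⟨d, hd⟩ : ∃ d, e = t + (d + 1) := ⟨e - t - 1, by omega⟩
    have h3 : N * p ^ (d + 1) = th (p ^ a) m * (p ^ (d + 1) + 1) := by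
      refine Nat.eq_of_mul_eq_mul_left (pow_pos hp.pos t) ?_
      rw [hd, pow_add] at h
      linear_combination h
    have h4 : p ∣ th (p ^ a) m * (p ^ (d + 1) + 1) := by
      rw [← h3]
      exact (dvd_pow_self p (by omega)).mul_left _
    have h5 := (hp.dvd_mul.1 h4).resolve_left h1
    exact hp.one_lt.ne' (Nat.dvd_one.1 ((Nat.dvd_add_right (dvd_pow_self p (by omega))).1 h5))
  · obtain ⟨s, rfl⟩ : ∃ s, t = e + s := ⟨t - e, by omega⟩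
    have h3 : N = (1 + p ^ s) * th (p ^ a) m := by
      refine Nat.eq_of_mul_eq_mul_right (pow_pos hp.pos e) ?_
      rw [h, pow_add]
      ring
    refine ⟨s, ?_, h3⟩
    by_contra h4
    obtain rfl : s = 0 := by omega
    have h5 : N ≡ 2 [MOD p] := by
      rw [h3]
      simpa using hth.mul_left 2
    have h6 := (Nat.modEq_iff_dvd' (by norm_num)).1 (hN.symm.trans h5)
    exact hp.one_lt.ne' (Nat.dvd_one.1 h6)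

variable {I W Y : Type*} [Fintype I] [DecidableEq I] [Group W] [Group Y] {M : CoxeterMatrix I}
  {cs : CoxeterSystem M W} {A : I → I → ℤ} {hA : IsCartan M A} {p : ℕ} {T : Subgroup Y} {nn : I → Y}
  {X : (I → ℤ) → Subgroup Y} {n : ℕ} {F : Type u} [Field F] [Finite F] {m : ℕ} {P : Subgroup (GL (Fin n) F)}

theorem index_modEq (R : RGD cs hA p T nn X) [Finite Y] [Finite W] [Fact p.Prime] (hG : GG cs hA T X = ⊤) (J : Set I) :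
    (PJ cs hA T X J).index ≡ 1 [MOD p] := by
  have h1 := H65.Disp.Rgd.relIndex_modEq R hG (N := ⊤) le_top
  have h2 := H65.Disp.Rgd.relIndex_modEq R hG (N := PJ cs hA T X J) B_le_PJ
  rw [Subgroup.relIndex_top_right, ← Subgroup.relIndex_mul_index (B_le_PJ (J := J))] at h1
  have h3 := h2.mul_right (PJ cs hA T X J).index
  rw [one_mul] at h3
  exact h3.symm.trans h1

/-- **The big cell.** -/
theorem Tc.big (h : Tc m P) (R : RGD cs hA p T nn X) [Finite Y] [Finite W] [hp : Fact p.Prime] [CharP F p]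
    (hG : GG cs hA T X = ⊤) (hT : ∀ s ∈ T, ∀ t ∈ T, s * t = t * s) {φ : Y →* GL (Fin n) F} (hφ : φ.range = P) :
    (∃ s, 1 ≤ s ∧ (PJ cs hA T X (Jx cs hA X (lin (acRep φ)))).index = (1 + p ^ s) * th (Nat.card F) m) ∧
      (PJ cs hA T X (Jx cs hA X (lin (acRep φ)))).index ∣ Nat.card (Soc P) ∧
      ∀ w ∈ WJ cs (Jx cs hA X (lin (acRep φ))), w0 cs * w * w0 cs ∈ WJ cs (Jx cs hA X (lin (acRep φ))) := by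
  obtain ⟨B, Sg, G, Y0, hB, hS, hPG, -, hY, hTi⟩ := h.geo
  have hC := h.core
  have hne : Nonempty (Fin n) := hC.nonempty
  rw [H69.Ppd.Jx_eq R hG hT hφ hC.absIrred]
  have hirr := H69.Ppd.lrep_irr (T := T) (X := X) (h := hA) (cs := cs) hG hφ hC.absIrred
  set ρ := lrep φ with hρ
  set J := Jx cs hA X ρ with hJ
  set U := RGD.Sup X (RGD.Pos cs hA) with hU
  have hρa : ∀ y v, ρ y v = ap (φ y) v := fun y v => H69.Ppd.lrep_apply φ y v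
  have hP : ∀ y, φ y ∈ P := fun y => hφ ▸ ⟨y, rfl⟩
  have hfix : ∀ y a b, B (ρ y a) (ρ y b) = B a b := fun y a b => by
    rw [hρa, hρa]
    exact hB.fix _ (hPG (hP y)) a b
  -- the fixed vector
  have hUp : IsPGroup p U := R.isPGroup_Upos
  obtain ⟨v, hv0, hvS, hvU⟩ := hS p (U.map φ) hp.out (CharP.cast_eq_zero F p)
    (by rintro _ ⟨y, -, rfl⟩; exact hPG (hP y)) (hUp.map φ)
  have hvD : v ∈ D cs hA X ρ := fun u hu => by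
    rw [hρa]
    exact hvU _ ⟨u, hu, rfl⟩
  have hD : ∀ x ∈ D cs hA X ρ, ∃ c : F, x = c • v := by
    obtain ⟨w, -, hw, -⟩ := H69.Ppd.exists_w R hG hT hφ hC.absIrred
    intro x hx
    rw [hw] at hx hvD
    obtain ⟨c, rfl⟩ := Submodule.mem_span_singleton.1 hx
    obtain ⟨d, rfl⟩ := Submodule.mem_span_singleton.1 hvD
    have hd : d ≠ 0 := fun e => hv0 (by rw [e, zero_smul])
    exact ⟨c / d, by rw [smul_smul, div_mul_cancel₀ _ hd]⟩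
  have hρ0 : ∀ y {x : Fin n → F}, x ≠ 0 → ρ y x ≠ 0 := fun y x hx => by
    rw [hρa]
    exact ap_ne _ hx
  have hD' : ∀ y, ρ y v ∈ D cs hA X ρ → ∃ c : F, c ≠ 0 ∧ ρ y v = c • v := fun y hy => by
    obtain ⟨c, hc⟩ := hD _ hy
    exact ⟨c, fun e => hρ0 y hv0 (by rw [hc, e, zero_smul]), hc⟩
  have hBv : ∀ b ∈ RGD.B cs hA T X, ∃ c : F, c ≠ 0 ∧ ρ b v = c • v := by
    intro b hb
    obtain ⟨t, ht, u, hu, rfl⟩ := R.mem_B.1 hb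
    refine hD' _ ?_
    rw [rho_mul, hvD u hu]
    exact D_ivt R hirr t ht v hvD
  -- the functional
  obtain ⟨k, hk⟩ := exists_rp cs R.nsys (w0 cs)
  have hψ : hB.fn (ρ k v) ∈ fx (dualRep ρ) (UN cs hA X) := by
    rw [mem_fx_dual]
    intro u hu x
    rw [← cj_U R hk, mem_cj] at hu
    rw [hB.fn_apply, hB.fn_apply, ← hfix u x (ρ k v)]
    congr 1
    have e : u * k = k * (k⁻¹ * u * k) := by group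
    rw [← rho_mul, e, rho_mul, hvD _ hu]
  have hcell : ∀ {w : W} {g : Y}, Rp cs R.nsys w g → B (ρ g v) v ≠ 0 → w0 cs * w ∈ WJ cs J := by
    intro w g hg h0
    refine mem_WJ_of_pair R hirr hψ (hk.mul hg) hvD ?_
    rwa [hB.fn_apply, rho_mul, hfix]
  have hnp : ∀ g : Y, B (ρ g v) v ≠ 0 → ∃ u ∈ U, ∃ c : F, c ≠ 0 ∧ ρ g v = c • ρ u (ρ k⁻¹ v) := by
    intro g h0
    obtain ⟨w, b₁, hb₁, g', hg', b₂, hb₂, rfl⟩ := (mem_GG R).1 (show g ∈ GG cs hA T X by rw [hG]; trivial)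
    obtain ⟨c₂, hc₂, e₂⟩ := hBv b₂ hb₂
    obtain ⟨c₁, hc₁, e₁⟩ := hBv b₁⁻¹ (inv_mem hb₁)
    have h1 : B (ρ g' v) v ≠ 0 := by
      intro h1
      apply h0
      rw [← hfix b₁⁻¹, ← rho_mul, mul_assoc, inv_mul_cancel_left, rho_mul, e₂, map_smul, e₁, hB.eq_zero_iff hc₂ hc₁]
      exact h1
    obtain ⟨t, ht, u, hu, rfl⟩ := R.mem_B.1 hb₁
    have h2 : Rp cs R.nsys (w0 cs * w) (k * (t * g')) := by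
      have h3 := hk.mul ((rp_of_mem (cs := cs) (hN := R.nsys) ht).mul hg')
      rwa [one_mul] at h3
    obtain ⟨c, hc, e⟩ := hD' _ (rp_D R hirr (hcell hg' h1) h2 hvD)
    refine ⟨t * u * t⁻¹, (Subgroup.mem_normalizer_iff.1 (R.T_le_normalizer_U ht) u).1 hu, c₂ * c, mul_ne_zero hc₂ hc, ?_⟩
    have e' : t * u * g' * b₂ = t * u * t⁻¹ * (k⁻¹ * (k * (t * g'))) * b₂ := by group
    rw [e', rho_mul, e₂, map_smul, rho_mul ρ (t * u * t⁻¹), rho_mul ρ k⁻¹, e, map_smul, map_smul, smul_smul]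
  have hUB : ∀ u ∈ U, ∀ x, B (ρ u x) v = B x v := fun u hu x => by
    conv_lhs => rw [← hvD u hu]
    exact hfix u x v
  have hk0 : B (ρ k⁻¹ v) v ≠ 0 := by
    intro h0
    obtain ⟨y, -, hy⟩ := hB.partner v hvS hv0
    have h1 := span_translates hirr hv0
    have h2 : Submodule.span F (Set.range fun g : GG cs hA T X => ρ g.1 v) ≤ LinearMap.ker (hB.fn v) := by
      rw [Submodule.span_le]
      rintro _ ⟨g, rfl⟩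
      by_contra h3
      obtain ⟨u, hu, c, -, e⟩ := hnp g h3
      apply h3
      show B (ρ g v) v = 0
      rw [e, hB.smul, hUB u hu, h0, mul_zero]
    rw [h1] at h2
    exact hy (h2 Submodule.mem_top)
  have hk1 : B v (ρ k v) ≠ 0 := by rwa [← hfix k⁻¹, rho_inv_rho]
  -- the stabiliser
  let x : ℙ F (Fin n → F) := Projectivization.mk F v hv0
  have hx : ∀ g : GL (Fin n) F, g • x = x ↔ ∃ c : F, c • v = ap g v := fun g => by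
    rw [smul_mk', mk_eq_mk_iff']
  have hst : (MulAction.stabilizer (GL (Fin n) F) x).comap φ = PJ cs hA T X J := by
    ext g
    rw [Subgroup.mem_comap, MulAction.mem_stabilizer_iff, hx, ← hρa]
    constructor
    · rintro ⟨c, hc⟩
      obtain ⟨w, hw⟩ := (mem_GG R).1 (show g ∈ GG cs hA T X by rw [hG]; trivial)
      rw [cell_mem_PJ_iff R hw]
      obtain ⟨b₁, hb₁, g', hg', b₂, hb₂, rfl⟩ := hw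
      obtain ⟨c₂, hc₂, e₂⟩ := hBv b₂⁻¹ (inv_mem hb₂)
      obtain ⟨c₁, hc₁, e₁⟩ := hBv b₁⁻¹ (inv_mem hb₁)
      have hc0 : c ≠ 0 := fun e => hρ0 _ hv0 (by rw [← hc, e, zero_smul])
      refine mem_WJ_of_pair R hirr hψ hg' hvD ?_
      have e' : g' = b₁⁻¹ * (b₁ * g' * b₂ * b₂⁻¹) := by group
      rw [hB.fn_apply, e', rho_mul, rho_mul, e₂, map_smul, ← hc, map_smul, map_smul, e₁, hB.smul, hB.smul, hB.smul]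
      exact mul_ne_zero hc₂ (mul_ne_zero hc0 (mul_ne_zero hc₁ hk1))
    · intro hg
      obtain ⟨l, hl, u, hu, rfl⟩ := (mem_PJ R).1 hg
      rw [rho_mul, hvD u (VJ_le_U J hu)]
      obtain ⟨c, hc⟩ := hD _ (LJ_D R hirr l hl v hvD)
      exact ⟨c, hc.symm⟩
  have hidx : (PJ cs hA T X J).index = (MulAction.stabilizer P x).index := by
    rw [← hst, Subgroup.index_comap, hφ]
    rfl
  refine ⟨?_, ?_, fun w hw => ?_⟩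
  · -- the orbit is invariant
    have hxS : Sg x.rep := by
      obtain ⟨c, -, e⟩ := exists_rep_mk hv0
      rw [e]
      exact hB.sg_smul c _ hvS
    have hinv : ∀ y ∈ Y0, y • x ∈ MulAction.orbit P x := by
      intro y hy
      obtain ⟨S, hS'⟩ := H65.Disp.Rgd.exists_sylow_eq R hG
      let f : Y →* P := φ.codRestrict P hP
      have hf : Function.Surjective f := by
        rintro ⟨g, hg⟩
        rw [← hφ] at hg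
        obtain ⟨z, rfl⟩ := hg
        exact ⟨z, rfl⟩
      let α : MulAut P := P.normalizerMonoidHom ⟨y, mem_normalizer (hY y hy)⟩
      obtain ⟨g, hg⟩ := MulAction.exists_smul_eq P (S.mapSurjective hf) (α • S.mapSurjective hf)
      have h1 : ρ 1 (ap y⁻¹ (ap (g : GL (Fin n) F) v)) ∈ D cs hA X ρ := by
        rw [rho_one]
        intro u hu
        have h2 : α (f u) ∈ (α • S.mapSurjective hf : Sylow p P) :=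
          Subgroup.smul_mem_pointwise_smul (f u) α _ ⟨u, hS'.symm ▸ hu, rfl⟩
        rw [← hg] at h2
        obtain ⟨_, ⟨u', hu', rfl⟩, e⟩ := h2
        have e' : (g : GL (Fin n) F) * φ u' * (g : GL (Fin n) F)⁻¹ = y * φ u * y⁻¹ := congrArg Subtype.val e
        have e'' : φ u * (y⁻¹ * g) = y⁻¹ * g * φ u' := by
          have e3 : φ u = y⁻¹ * ((g : GL (Fin n) F) * φ u' * (g : GL (Fin n) F)⁻¹) * y := by rw [e']; group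
          rw [e3]
          group
        rw [hρa, ← ap_mul y⁻¹, ← ap_mul, e'', ap_mul, ← hρa u', hvD u' (hS' ▸ hu')]
      rw [rho_one] at h1
      obtain ⟨c, hc⟩ := hD _ h1
      have h2 : (y⁻¹ * (g : GL (Fin n) F)) • x = x := (hx _).2 ⟨c, by rw [ap_mul, hc]⟩
      refine ⟨g, ?_⟩
      show (g : GL (Fin n) F) • x = y • x
      conv_rhs => rw [← h2, ← mul_smul, mul_inv_cancel_left]
    have key := hTi (MulAction.orbit P x) (by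
      rintro _ ⟨g, rfl⟩
      obtain ⟨c, -, e⟩ := exists_rep_smul (g : GL (Fin n) F) x
      show Sg ((g : GL (Fin n) F) • x).rep
      rw [e]
      exact hB.sg_smul c _ (hB.sg _ (hPG g.2) _ hxS)) (by
      rintro y hy _ ⟨g, rfl⟩
      obtain ⟨g', hg'⟩ := hinv y hy
      refine ⟨⟨y * g * y⁻¹, hY y hy g g.2⟩ * g', ?_⟩
      have hg'' : (g' : GL (Fin n) F) • x = y • x := hg'
      show ((y * g * y⁻¹) * (g' : GL (Fin n) F)) • x = y • (g : GL (Fin n) F) • x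
      rw [mul_smul, hg'', ← mul_smul, inv_mul_cancel_right, mul_smul]) x (MulAction.mem_orbit_self x)
    -- the points which are not perpendicular
    have hrep : ∀ g : Y, B (φ g • x).rep x.rep ≠ 0 ↔ B (ρ g v) v ≠ 0 := by
      intro g
      obtain ⟨c, hc, e⟩ := exists_rep_mk hv0
      obtain ⟨d, hd, e'⟩ := exists_rep_smul (φ g) x
      rw [e', e, ap_smul, smul_smul, Ne, hB.eq_zero_iff (mul_ne_zero hd hc) hc, hρa]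
    have h3 : {z ∈ MulAction.orbit P x | B z.rep x.rep ≠ 0} = MulAction.orbit (U.map φ) (φ k⁻¹ • x) := by
      ext z
      constructor
      · rintro ⟨⟨⟨g, hg⟩, rfl⟩, hz⟩
        rw [← hφ] at hg
        obtain ⟨g, rfl⟩ := hg
        obtain ⟨u, hu, c, -, e⟩ := hnp g ((hrep g).1 hz)
        refine ⟨⟨φ u, u, hu, rfl⟩, ?_⟩
        show φ u • φ k⁻¹ • x = φ g • x
        rw [smul_mk', smul_mk', smul_mk', eq_comm, mk_eq_mk_iff']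
        exact ⟨c, by rw [← hρa, ← hρa, ← hρa, e]⟩
      · rintro ⟨⟨_, u, hu, rfl⟩, rfl⟩
        have e : φ u • φ k⁻¹ • x = φ (u * k⁻¹) • x := by rw [map_mul, mul_smul]
        refine ⟨⟨⟨φ (u * k⁻¹), hP _⟩, e.symm⟩, ?_⟩
        show B (φ u • φ k⁻¹ • x).rep x.rep ≠ 0
        rw [e, hrep, rho_mul, hUB u hu]
        exact hk0
    obtain ⟨t, ht⟩ := (hUp.map φ).index (MulAction.stabilizer (U.map φ) (φ k⁻¹ • x))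
    rw [h3, ← MulAction.index_stabilizer, ← MulAction.index_stabilizer, ht, ← hidx] at key
    have := Fintype.ofFinite F
    obtain ⟨a, -, ha⟩ := FiniteField.card F p
    rw [Nat.card_eq_fintype_card, ha] at key ⊢
    exact num_big hp.out a.pos (by have := h.six; omega) (index_modEq R hG J) key
  · rw [hidx]
    refine Subgroup.index_dvd_of_le (H := (scalars (Fin n) F).subgroupOf P) fun g hg => ?_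
    obtain ⟨c, hc⟩ := (mem_scalars_iff _).1 (Subgroup.mem_subgroupOf.1 hg)
    refine (hx g).2 ⟨c, ?_⟩
    rw [ap, hc, Matrix.smul_mulVec, Matrix.one_mulVec]
  · obtain ⟨g, hg⟩ := exists_rp cs R.nsys w
    rw [mul_assoc]
    refine hcell (hg.mul hk) fun h0 => hk1 (hB.refl _ _ ?_)
    obtain ⟨c, hc, e⟩ := hD' _ (rp_D R hirr (inv_mem hw) hg.inv hvD)
    rw [← hfix g⁻¹, ← rho_mul, inv_mul_cancel_left, e, ← one_smul F (ρ k v), hB.eq_zero_iff one_ne_zero hc] at h0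
    exact h0

/-- `th |F| m` divides the order of the socle -/
theorem Tc.dvd_soc (h : Tc m P) (R : RGD cs hA p T nn X) [Finite Y] [Finite W] [Fact p.Prime] [CharP F p]
    (hG : GG cs hA T X = ⊤) (hT : ∀ s ∈ T, ∀ t ∈ T, s * t = t * s) {φ : Y →* GL (Fin n) F} (hφ : φ.range = P) :
    th (Nat.card F) m ∣ Nat.card (Soc P) := by
  obtain ⟨⟨s, -, h1⟩, h2, -⟩ := h.big R hG hT hφ
  rw [h1] at h2
  exact (Dvd.intro_left _ rfl).trans h2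

end Cfsg.Agent.SM.Ti
end

-- part: SM/Ti/Tool
section
prune_inst 0x20300400a2000000000010020000200a0000000048800128a1020000804400000000003c200011480800040030004811000090020000000000000001180080000254020200010c060000800080000000000000000000000000000000000004000000000
set_option linter.all false
open scoped Cfsg.Agent.FastGrp

-- part: SM/Ti/Rows
section
/-!
# S3570, tight cores in the defining characteristic: the boxes (helper69, `notes/SM/ti.md`)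

`Tc m P`, `Soc P` of Lie type over `K`.  The borderline case is `|F| ^ m = |K| ^ h`, `h` the largest degree.

* `BoxA`, `BoxC`, `BoxB`, `BoxDp`, `BoxDm`, `BoxU`, `BoxG`, `BoxF`, `BoxE`, `BoxT`, `BoxS` : the families.
-/

set_option autoImplicit false

namespace Cfsg.Agent.SM.Ti

open Cfsg Cfsg.Geo Matrix
open Cfsg.Agent.H915.LD

/-- a property of all tight cores, with a second field of the same characteristic -/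
def AllTc (R : ∀ (n _m _p : ℕ) (F : Type) [Field F] [Finite F] (K : Type) [Field K] [Fintype K],
    Subgroup (GL (Fin n) F) → Prop) : Prop :=
  ∀ (n m p : ℕ) [Fact p.Prime] (F : Type) [Field F] [Finite F] [CharP F p] (K : Type) [Field K] [Fintype K] [CharP K p]
    (P : Subgroup (GL (Fin n) F)), Tc m P → R n m p F K P

/-- [Ti-A] -/
def BoxA : Prop := AllTc fun _ m _ F _ _ K _ _ P => ∀ N : ℕ, 2 ≤ N → (N = 2 → 4 ≤ Fintype.card K) →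
  Nat.card F ^ m = Fintype.card K ^ N → IsEmpty (Soc P ≃* ProjectiveSpecialLinearGroup (Fin N) K)

/-- [Ti-C] -/
def BoxC : Prop := AllTc fun n m p F _ _ K _ _ P => ∀ l : ℕ, 2 ≤ l → (l = 2 → 3 ≤ Fintype.card K) →
  Nat.card F ^ m = Fintype.card K ^ (2 * l) → Nonempty (Soc P ≃* PSp l K) →
  Fintype.card K = Nat.card F ∧ ((l = 3 ∧ n = 13) ∨ (l = 4 ∧ n = 16 ∧ p = 2 ∧ (FixA P → FixQ P)))

/-- [Ti-B] -/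
def BoxB : Prop := AllTc fun n m _ F _ _ K _ _ P => ∀ l : ℕ, 3 ≤ l → Odd (Fintype.card K) →
  Nat.card F ^ m = Fintype.card K ^ (2 * l) → Nonempty (Soc P ≃* POmega K (quadFormOdd l K)) →
  Fintype.card K = Nat.card F ∧ l = 4 ∧ n = 16

/-- [Ti-Dp] -/
def BoxDp : Prop := AllTc fun _ m _ F _ _ K _ _ P => ∀ l : ℕ, 4 ≤ l →
  Nat.card F ^ m = Fintype.card K ^ (2 * l - 2) → IsEmpty (Soc P ≃* POmega K (quadFormPlus l K))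

/-- [Ti-Dm] -/
def BoxDm : Prop := AllTc fun _ m _ F _ _ K _ _ P => ∀ (l : ℕ) (a b : K), 4 ≤ l →
  (∀ z₁ z₂ : K, z₁ ^ 2 + a * z₁ * z₂ + b * z₂ ^ 2 = 0 → z₁ = 0 ∧ z₂ = 0) →
  Nat.card F ^ m = Fintype.card K ^ (2 * l) → IsEmpty (Soc P ≃* POmega K (quadFormMinus (l - 1) K a b))

/-- [Ti-G] -/
def BoxG : Prop := AllTc fun _ m _ F _ _ K _ _ P => 3 ≤ Fintype.card K →
  Nat.card F ^ m = Fintype.card K ^ 6 → IsEmpty (Soc P ≃* Lie.chevG2.group K)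

/-- [Ti-F] -/
def BoxF : Prop := AllTc fun n m _ F _ _ K _ _ P =>
  Nat.card F ^ m = Fintype.card K ^ 12 → Nonempty (Soc P ≃* Lie.chevF4.group K) → Fintype.card K = Nat.card F ∧ n = 25

end Cfsg.Agent.SM.Ti
end

-- part: SM/Ti/Tool
section
/-!
# S3570, tight cores: tools for the rows (helper69, `notes/SM/ti.md`)

* numbers : `jm`, `not_nat`, `j_one`, `th_dvd_pred`, `le_th`;
* `cb` : `|W : W_J| d ^ s ≤ 2 n`;  `two`, `par`, `levi_list`, `min_word`, `moved_word` : ranks of Levi modules;  `sym`, `sym_le` : `w₀` normalises `W_J`;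
* `lift` : the datum of the socle lifts to the core;
* `dvd_of_FD` : primes of `|Aut T|` which divide `|T|`.
-/

set_option autoImplicit false
set_option linter.unusedSectionVars false

namespace Cfsg.Agent.SM.Ti.Tool

open CoxeterSystem Cfsg.Agent.ChevalleyStructure.CoxeterGeom Cfsg.Agent.Tits.Roots Cfsg.Agent.Tits.Core
  Cfsg.Agent.Tits.Exchange Cfsg.Agent.Nodes.Reps Cfsg.Agent.Nodes.BNOf Cfsg.Agent.Nodes.StabComb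
  Cfsg.Agent.Nodes.Bruhat Cfsg.Agent.Nodes.OppDec Cfsg.Agent.Nodes.LeviDec Cfsg.Agent.KFacts.RgdOpp
  Cfsg.Agent.Omega.CR Cfsg.Agent.Omega.FOne.Lift.Sd Cfsg.Agent.H911 Cfsg.Agent.H905.Md
open Cfsg Cfsg.Geo
open Cfsg.Agent.H915.LD
open Cfsg.Agent.H905.DC (co fire cf co_mul_simple co_mul_left co_wordProd)
open Cfsg.Agent.H650.Ppd (Nd)
open Cfsg.Agent.H911.SLTwo (U Lo hh ww)
open Cfsg.Agent.H875.Fn (SS)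
open Cfsg.Agent.H117.Levi (lrk)
open Cfsg.Agent.Nodes.RGDLift Cfsg.Agent.Nodes.RGDLib
open scoped MatrixGroups Matrix

universe u v

/-! ### numbers -/

theorem jm {Q q j m h : ℕ} (hQ : 1 < Q) (h1 : Q ^ j = q) (h2 : Q ^ m = q ^ h) : m = j * h := by
  rw [← h1, ← pow_mul] at h2
  exact Nat.pow_right_injective hQ h2

theorem two_le_add {p s : ℕ} (hp : p.Prime) : 2 ≤ 1 + p ^ s := by
  have := Nat.one_le_pow s p hp.pos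
  omega

/-! ### the modules -/

section rep

variable {I W Y : Type*} [Fintype I] [DecidableEq I] [Group W] [Group Y] {M : CoxeterMatrix I}
  {cs : CoxeterSystem M W} {A : I → I → ℤ} {hA : IsCartan M A} {p : ℕ} {T : Subgroup Y} {nn : I → Y}
  {X : (I → ℤ) → Subgroup Y}

/-- `w₀` normalises `W_J` -/
theorem sym [Finite W] {J : Set I} (hJ : ∀ w ∈ WJ cs J, w0 cs * w * w0 cs ∈ WJ cs J) {i m : I} (hi : i ∉ J) (hm : m ∈ J) :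
    co cs hA i (w0 cs) m = 0 := by
  have h1 := co_mul_left cs hA hi (hJ _ (Tits.Exchange.simple_mem_WJ cs hm)) (w0 cs)
  rw [mul_assoc, w0_mul_self, mul_one, co_mul_simple] at h1
  have h2 := congrFun h1 m
  simp only [fire, hA.diag] at h2
  omega

theorem sym_le [Finite W] (i m : I) : co cs hA i (w0 cs) m ≤ 0 :=
  rep_w0_nonpos (isRoot_sr cs hA m) (sr_nonneg m) i

theorem min_word {i : I} {ω : List I} (h : ∀ m, 0 ≤ cf A m ω i) : 0 ≤ rep cs hA (cs.wordProd ω)⁻¹⁻¹ (sr i) := by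
  rw [inv_inv]
  intro m
  have h2 := h m
  rw [← co_wordProd cs hA] at h2
  exact h2

theorem moved_word (hA : IsCartan M A) {J : Set I} {i s : I} (hs : s ∉ J) {ω : List I} (h : cf A s ω i ≠ 0) :
    (cs.wordProd ω)⁻¹⁻¹ * cs.simple i * (cs.wordProd ω)⁻¹ ∉ WJ cs J := by
  intro hmem
  have h2 := co_mul_left cs hA hs hmem (cs.wordProd ω)
  have e : (cs.wordProd ω)⁻¹⁻¹ * cs.simple i * (cs.wordProd ω)⁻¹ * cs.wordProd ω = cs.wordProd ω * cs.simple i := by group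
  rw [e, co_mul_simple, co_wordProd] at h2
  have h3 := congrFun h2 i
  simp only [fire, hA.diag] at h3
  omega

variable (R : RGD cs hA p T nn X) [Finite Y] [Finite W] [hp : Fact p.Prime]
  {F : Type u} [Field F] [Finite F] [CharP F p] {ι : Type} [Fintype ι] [DecidableEq ι] {P : Subgroup (GL ι F)} (hC : Core P)
  (hG : GG cs hA T X = ⊤) (hT : ∀ s ∈ T, ∀ t ∈ T, s * t = t * s) {φ : Y →* GL ι F} (hφ : φ.range = P)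
  {E : Type} [Field E] [Fintype E] [CharP E p] {i : I} {σ : SL(2, E) →* Y} (N : Nd T X i σ)
include R hC hG hT hφ N

/-- the weight of a vertex at a node -/
theorem exists_wt {w : W} {g : Y} (hg : Rp cs R.nsys w g) (hmin : 0 ≤ rep cs hA w⁻¹ (sr i))
    (hs : w⁻¹ * cs.simple i * w ∉ WJ cs (Jx cs hA X (lin (acRep φ)))) :
    ∃ (j : E →+* AlgebraicClosure F) (r : ℕ), r ≠ 0 ∧ (SS p r).card ≤ lrk cs hA T X (lin (acRep φ)) {i} g ∧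
      ∀ s : Eˣ, ∀ v ∈ D cs hA X (lin (acRep φ)), lin (acRep φ) (g⁻¹ * σ (hh s) * g) v = j s ^ r • v := by
  have hne := hC.nonempty
  have hchar : CharP (AlgebraicClosure F) p := charP_of_injective_algebraMap (algebraMap F _).injective p
  have hirr := ac_irr R hG hT hφ hC.absIrred
  obtain ⟨c, hc, hc0, χ, hχ⟩ := exists_chi R hirr hT
  obtain ⟨j⟩ := H2.Ppd.exists_emb F E p
  have := Fintype.ofFinite F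
  obtain ⟨a, -, ha⟩ := FiniteField.card F p
  obtain ⟨b, -, hb⟩ := FiniteField.card E p
  obtain ⟨r, h0, h1, -, h2⟩ := H2.Ppd.exists_weight R hG hφ hC.absIrred (by rw [Nat.card_eq_fintype_card, ha]) hb j hc hc0 hχ σ
    N.tor hg
  have h3 : ∀ s : Eˣ, ∀ v ∈ D cs hA X (lin (acRep φ)), lin (acRep φ) (g⁻¹ * σ (hh s) * g) v = j s ^ r • v := by
    intro s v hv
    obtain ⟨x, rfl⟩ := H650.Ppd.exists_smul_of_mem (finrank_D R hirr hT) hc hc0 hv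
    rw [map_smul, h2, smul_comm]
  exact ⟨j, r, h0, H117.Levi.card_SS_le_lrk R hirr hg hmin hs j σ (fun t => (N.up _).2 ⟨t, rfl⟩) (fun t => (N.lo _).2 ⟨t, rfl⟩)
    N.tor (H948.Ppd.Nd.rp_ww R ⟨N.up, N.lo, N.tor⟩) (by omega) h1 h3, h3⟩

theorem two {w : W} {g : Y} (hg : Rp cs R.nsys w g) (hmin : 0 ≤ rep cs hA w⁻¹ (sr i))
    (hs : w⁻¹ * cs.simple i * w ∉ WJ cs (Jx cs hA X (lin (acRep φ)))) : 2 ≤ lrk cs hA T X (lin (acRep φ)) {i} g := by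
  obtain ⟨j, r, h0, h1, -⟩ := exists_wt R hC hG hT hφ N hg hmin hs
  exact (H875.Fn.two_le_card_SS h0).trans h1

/-- **parity** -/
theorem par (hp2 : p ≠ 2) {w : W} {g : Y} (hg : Rp cs R.nsys w g) (hmin : 0 ≤ rep cs hA w⁻¹ (sr i))
    (hs : w⁻¹ * cs.simple i * w ∉ WJ cs (Jx cs hA X (lin (acRep φ))))
    (h1 : ∀ v ∈ D cs hA X (lin (acRep φ)), lin (acRep φ) (g⁻¹ * σ (hh (-1)) * g) v = v) :
    3 ≤ lrk cs hA T X (lin (acRep φ)) {i} g := by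
  have hne := hC.nonempty
  have hchar : CharP (AlgebraicClosure F) p := charP_of_injective_algebraMap (algebraMap F _).injective p
  have hirr := ac_irr R hG hT hφ hC.absIrred
  obtain ⟨j, r, h0, h2, h3⟩ := exists_wt R hC hG hT hφ N hg hmin hs
  refine le_trans ?_ h2
  rcases (H875.Fn.two_le_card_SS (p := p) h0).eq_or_lt with h4 | h4
  swap
  · exact h4
  exfalso
  obtain ⟨t, rfl⟩ := H875.Psl2.eq_pow_of_card_two p h4.symm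
  obtain ⟨c, hc, hc0, -⟩ := exists_chi R hirr hT
  have h5 := h3 (-1) c hc
  rw [h1 c hc, Units.val_neg, Units.val_one, map_neg, map_one, ((hp.out.odd_of_ne_two hp2).pow).neg_one_pow] at h5
  have h6 : (1 : AlgebraicClosure F) = -1 := smul_left_injective _ hc0 (by simpa using h5)
  have h7 : ((2 : ℕ) : AlgebraicClosure F) = 0 := by
    push_cast
    linear_combination h6
  rw [CharP.cast_eq_zero_iff _ p] at h7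
  exact hp2 ((Nat.prime_dvd_prime_iff_eq hp.out Nat.prime_two).1 h7)

omit N in
/-- **the sum of the ranks at the node `i`**, vertices given by words -/
theorem levi_list (i : I) (S : List I) (hS : ∀ s ∈ S, s ∉ Jx cs hA X (lin (acRep φ))) {k : ℕ} (L : Fin k → List I)
    (h0 : ∀ a m, 0 ≤ cf A m (L a) i)
    (h1 : ∀ a a', a ≠ a' → (S.map fun s => cf A s (L a)) ≠ (S.map fun s => cf A s (L a')) ∧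
      (S.map fun s => fire A (cf A s (L a)) i) ≠ S.map fun s => cf A s (L a'))
    (g : Fin k → Y) (hg : ∀ a, Rp cs R.nsys (cs.wordProd (L a))⁻¹ (g a)) :
    ∑ a, lrk cs hA T X (lin (acRep φ)) {i} (g a) ≤ Fintype.card ι := by
  have hne := hC.nonempty
  have hchar : CharP (AlgebraicClosure F) p := charP_of_injective_algebraMap (algebraMap F _).injective p
  have hirr := ac_irr R hG hT hφ hC.absIrred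
  have hsum := H117.Levi.dim_ge_levi R hirr ({i} : Set I) (fun a => (cs.wordProd (L a))⁻¹) g hg
    (fun a i' hi => by
      obtain rfl : i' = i := hi
      exact min_word (h0 a))
    (fun a a' haa x hx hmem => by
      obtain ⟨n1, n2⟩ := h1 a a' haa
      have h2 := fun s hs => co_mul_left cs hA (hS s hs) hmem (cs.wordProd (L a'))
      have e : (cs.wordProd (L a))⁻¹⁻¹ * x * (cs.wordProd (L a'))⁻¹ * cs.wordProd (L a') = cs.wordProd (L a) * x := by group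
      rw [e] at h2
      rcases KFacts.RgdDiag.mem_WJ_singleton hx with rfl | rfl
      · refine n1 (List.map_congr_left fun s hs => ?_)
        have h3 := h2 s hs
        rwa [mul_one, co_wordProd, co_wordProd] at h3
      · refine n2 (List.map_congr_left fun s hs => ?_)
        have h3 := h2 s hs
        rwa [co_mul_simple, co_wordProd, co_wordProd] at h3)
  rwa [Module.finrank_fintype_fun_eq_card] at hsum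

end rep

/-! ### the lift -/

open Cfsg.Agent.H218.SdLift Cfsg.Agent.H51.Mult in
/-- **The datum of the socle lifts to the core.** -/
theorem lift {ι : Type} [Fintype ι] [DecidableEq ι] {F : Type u} [Field F] [Finite F] {P : Subgroup (GL ι F)}
    (hC : Core P) {I W : Type*} {G : Type v} [Fintype I] [DecidableEq I] [Group W] [Finite W] [Group G]
    {M : CoxeterMatrix I} {cs : CoxeterSystem M W} {A : I → I → ℤ} {h : IsCartan M A} {p : ℕ} [hp : Fact p.Prime]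
    [CharP F p] {T : Subgroup G} {n : I → G} {X : (I → ℤ) → Subgroup G} (R : RGD cs h p T n X)
    (hgen : G1 cs h X = ⊤) (hT : ∀ s ∈ T, ∀ t ∈ T, s * t = t * s) {E : I → Type} [∀ i, Field (E i)]
    [∀ i, Fintype (E i)] [∀ i, CharP (E i) p] {θ : ∀ i, SL(2, E i) →* G} (N : ∀ i, H64.CrossChev.Nd T n X i (θ i))
    (e : Soc P ≃* G) :
    ∃ (Y : Type) (_ : Group Y) (_ : Finite Y) (φ : Y →* GL ι F) (π : Y →* G) (n' : I → Y) (θ' : ∀ i, SL(2, E i) →* Y),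
      φ.range = P ∧ Function.Injective φ ∧ Function.Surjective π ∧ (∀ y, π y = 1 ↔ φ y ∈ scalars ι F) ∧
      (Nat.card π.ker).Coprime p ∧ (∀ i g, π (θ' i g) = θ i g) ∧ RGD cs h p (T.comap π) n' (fun x => lft p π (X x)) ∧
      G1 cs h (fun x => lft p π (X x)) = ⊤ ∧ GG cs h (T.comap π) (fun x => lft p π (X x)) = ⊤ ∧
      (∀ s ∈ T.comap π, ∀ t ∈ T.comap π, s * t = t * s) ∧
      (∀ i, H64.CrossChev.Nd (T.comap π) n' (fun x => lft p π (X x)) i (θ' i)) ∧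
      ∀ i, Nd (T.comap π) (fun x => lft p π (X x)) i (θ' i) := by
  classical
  let Y : Type := Shrink.{0} P
  let ψ : Y ≃* P := Shrink.mulEquiv
  have hYf : Finite Y := Finite.of_equiv _ ψ.symm.toEquiv
  let φ : Y →* GL ι F := P.subtype.comp ψ.toMonoidHom
  have hφ : φ.range = P := by
    rw [MonoidHom.range_comp, MonoidHom.range_eq_top.2 (show Function.Surjective ψ.toMonoidHom from ψ.surjective),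
      ← MonoidHom.range_eq_map, Subgroup.range_subtype]
  have hφi : Function.Injective φ := Subtype.val_injective.comp ψ.injective
  let π : Y →* G := (prj e).comp ψ.toMonoidHom
  have hker : ∀ y : Y, y ∈ π.ker ↔ ψ y ∈ (scalars ι F).subgroupOf P := by
    intro y
    rw [← prj_ker e, MonoidHom.mem_ker, MonoidHom.mem_ker]
    rfl
  have hd : PCE π := by
    refine ⟨(prj_surjective e).comp ψ.surjective, ?_, ?_⟩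
    · intro y hy
      rw [Subgroup.mem_center_iff]
      intro z
      apply ψ.injective
      rw [map_mul, map_mul]
      exact Subgroup.mem_center_iff.1 (subgroupOf_scalars_le P ((hker y).1 hy)) (ψ z)
    · have hP := commutator_eq_top_of_perfect hC.perfect
      have h1 := congrArg (Subgroup.map ψ.symm.toMonoidHom) hP
      rw [commutator_def, Subgroup.map_commutator] at h1
      have h2 : (⊤ : Subgroup P).map ψ.symm.toMonoidHom = ⊤ := by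
        rw [← MonoidHom.range_eq_map, MonoidHom.range_eq_top]
        exact ψ.symm.surjective
      rw [h2] at h1
      exact h1
  have hcop : (Nat.card π.ker).Coprime p := by
    refine Nat.Coprime.coprime_dvd_left ?_ (card_scalars_coprime (p := p) P)
    refine Subgroup.card_dvd_of_injective ((ψ.toMonoidHom.comp π.ker.subtype).codRestrict ((scalars ι F).subgroupOf P)
      (fun x => (hker _).1 x.2)) ?_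
    intro x y e
    have e1 : ψ (x : Y) = ψ (y : Y) := congrArg (fun z : (scalars ι F).subgroupOf P => (z : P)) e
    exact Subtype.ext (ψ.injective e1)
  obtain ⟨θ', hθ', R', hgen', hT', N'⟩ := H2.Ppd.exists_lift hp.out hd hcop R hgen hT N
  refine ⟨Y, inferInstance, hYf, φ, π, _, θ', hφ, hφi, hd.1, fun y => hker y, hcop, hθ', R', hgen', gg_eq_top hgen', hT', N',
    fun i => ⟨fun x => (N' i).mem x, fun x => ?_, H2.Ppd.nd_hh (N' i)⟩⟩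
  rw [H64.CrossChev.Nd.conj_eq R' (N' i)]
  constructor
  · rintro ⟨t, rfl⟩
    exact ⟨-t, by rw [H2.Ppd.Lo_eq, Nodes.RGDFoldSL.lo_eq, neg_neg]⟩
  · rintro ⟨t, rfl⟩
    exact ⟨-t, by rw [H2.Ppd.Lo_eq, Nodes.RGDFoldSL.lo_eq]⟩

/-! ### automorphisms -/

/-- **A prime divisor of `|Aut T|` which divides `|T|`.** -/
theorem dvd_of_FD {T : Type v} [Group T] [Finite T] {p L r : ℕ} (hp : p.Prime) (hT : H462.Ppd.FD T p)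
    (hL : ∀ s : ℕ, s.Prime → s ∣ Nat.card T → s ≠ p → s ∣ p ^ L - 1) (hr : r.Prime) (h7 : 7 ≤ r) (hrL : ¬ r ∣ L)
    (h : r ∣ Nat.card (MulAut T)) : r ∣ Nat.card T := by
  obtain ⟨b, c, φ, x, h1, h2, -, -, h5, h6⟩ := hT
  rw [h1] at h
  rcases hr.dvd_mul.1 h with h | h
  · exact h
  rcases hr.dvd_mul.1 h with h | h
  · exact h2 r hr h7 h
  have hN : orderOf x ∣ Nat.card T := orderOf_dvd_natCard x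
  have hN0 : orderOf x ≠ 0 := (orderOf_pos x).ne'
  have h8 : orderOf x ∣ p ^ (L * orderOf x) - 1 := by
    rw [Nat.dvd_iff_prime_pow_dvd_dvd]
    intro s k hs hk
    rcases Nat.eq_zero_or_pos k with rfl | hk0
    · simp
    have hs1 : s ∣ orderOf x := (dvd_pow_self s hk0.ne').trans hk
    have hs2 := hL s hs (hs1.trans hN) (fun e => h5 (e ▸ hs1))
    have h9 : p ^ L ≡ 1 [MOD s] := ((Nat.modEq_iff_dvd' (Nat.one_le_pow _ _ hp.pos)).2 hs2).symm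
    have h10 : ((s : ℤ)) ^ (k + 1) ∣ ((p ^ L : ℕ) : ℤ) ^ s ^ k - 1 ^ s ^ k :=
      dvd_sub_pow_of_dvd_sub (by exact_mod_cast h9.symm.dvd) k
    obtain ⟨y, hy⟩ := hk
    have h11 : s ^ k ∣ (p ^ L) ^ s ^ k - 1 := by
      rw [one_pow] at h10
      have h12 : 1 ≤ (p ^ L) ^ s ^ k := Nat.one_le_pow _ _ (pow_pos hp.pos _)
      have h13 : ((s ^ k : ℕ) : ℤ) ∣ (((p ^ L) ^ s ^ k - 1 : ℕ) : ℤ) := by
        push_cast [Nat.cast_sub h12]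
        push_cast at h10
        exact (pow_dvd_pow _ (Nat.le_succ k)).trans h10
      exact_mod_cast h13
    rw [← pow_mul] at h11
    refine h11.trans (Nat.pow_sub_one_dvd_pow_sub_one p ?_)
    rw [hy]
    exact ⟨y, by ring⟩
  have h9 : b ∣ L * orderOf x := by
    refine h6 _ ?_
    have h10 := orderOf_dvd_iff_pow_eq_one.1 h8
    have h11 : 1 ≤ p ^ (L * orderOf x) := Nat.one_le_pow _ _ hp.pos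
    rw [← Nat.sub_add_cancel h11, pow_succ, h10, one_mul]
  exact ((hr.dvd_mul.1 (h.trans h9)).resolve_left hrL).trans hN

end Cfsg.Agent.SM.Ti.Tool
end

private theorem dce_14b34c6efc78 : _root_.True := by
  try have : _root_.True := by simp only [_root_.Cfsg.Agent.H905.DC.fire.eq_1]
  exact _root_.True.intro
end

-- part: SM/Ti/LoE
section
prune_inst 0x2050406422000000000012020000242e000100002b800069a003420888472180002700beb0020009c832a410384048110000d90200000000003200411a0080002b12020110ac04160000809804000000000000000000000000000000000004000000000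
set_option linter.all false
open scoped Cfsg.Agent.FastGrp
private noncomputable def lq262b4d3c1c {T : Sort _} (f :
    type_of% (@_root_.Matrix.vecCons.{0}) →
    type_of% (@_root_.Matrix.vecEmpty.{0}) →
    type_of% (@_root_.List.cons.{0} (Fin (Nat.succ 0).succ.succ.succ.succ.succ.succ.succ → Int)) →
    type_of% (@_root_.List.cons.{0}) →
    type_of% (@_root_.List.cons.{0} (Fin (Nat.succ 0).succ.succ.succ.succ.succ.succ → Int)) →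
    type_of% (@_root_.List.nil.{0}) → T) : T :=
  f (@_root_.Matrix.vecCons.{0}) (@_root_.Matrix.vecEmpty.{0}) (@_root_.List.cons.{0} (Fin (Nat.succ 0).succ.succ.succ.succ.succ.succ.succ → Int)) (@_root_.List.cons.{0}) (@_root_.List.cons.{0} (Fin (Nat.succ 0).succ.succ.succ.succ.succ.succ → Int)) (@_root_.List.nil.{0})

-- part: SM/Ti/Deg
section
/-!
# S3570, tight cores: degrees (helper69, `notes/SM/ti.md`)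

* `Dg Q d N` : the primes of `N` which do not divide `Q` divide some `Q ^ e - 1`, `1 ≤ e ≤ d`; `dg_psl`, ... : the families;
* `Tc.dvd_card` : large primes of `th |F| m` divide the order of the socle;
* `Tc.le_of_dg` : `|F| ^ m ≤ Q ^ d`;  `Tc.lt_of` : the dimension in the case `|F| ^ m < Q ^ d`.
-/

set_option autoImplicit false
set_option linter.unusedSectionVars false

namespace Cfsg.Agent.SM.Ti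

open Cfsg Cfsg.Geo Matrix
open Cfsg.Agent.H915.LD

universe u v

/-- the primes of `N` which do not divide `Q` divide some `Q ^ e - 1`, `1 ≤ e ≤ d` -/
def Dg (Q d N : ℕ) : Prop := ∀ s : ℕ, s.Prime → s ∣ N → ¬ s ∣ Q → ∃ e, 1 ≤ e ∧ e ≤ d ∧ s ∣ Q ^ e - 1

theorem add_dvd_sub (q e : ℕ) : q ^ e + 1 ∣ q ^ (2 * e) - 1 := by
  rw [mul_comm, pow_mul]
  have := Nat.sq_sub_sq (q ^ e) 1
  rw [one_pow] at this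
  exact ⟨_, this⟩

namespace Dg

variable {Q d N N' : ℕ}

theorem of_dvd (h : Dg Q d N') (h1 : N ∣ N') : Dg Q d N := fun s hs h2 => h s hs (h2.trans h1)

theorem of_mul {g : ℕ} (h1 : g * N = N') (h : Dg Q d N') : Dg Q d N := h.of_dvd ⟨g, by rw [← h1, mul_comm]⟩

theorem mul (h : Dg Q d N) (h' : Dg Q d N') : Dg Q d (N * N') := fun s hs h1 h2 =>
  (hs.dvd_mul.1 h1).elim (fun h3 => h s hs h3 h2) fun h3 => h' s hs h3 h2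

theorem pow (k : ℕ) : Dg Q d (Q ^ k) := fun _ hs h1 h2 => absurd (hs.dvd_of_dvd_pow h1) h2

theorem pow' {q c : ℕ} (hc : c ≠ 0) (k : ℕ) : Dg (q ^ c) d (q ^ k) := fun _ hs h1 h2 =>
  absurd (dvd_pow (hs.dvd_of_dvd_pow h1) hc) h2

theorem sub {e : ℕ} (h1 : 1 ≤ e) (h2 : e ≤ d) : Dg Q d (Q ^ e - 1) := fun _ _ h3 _ => ⟨e, h1, h2, h3⟩

theorem sub' {q c e x : ℕ} (h1 : 1 ≤ e) (h2 : e ≤ d) (hx : x ∣ c * e) : Dg (q ^ c) d (q ^ x - 1) :=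
  (sub h1 h2).of_dvd (by rw [← pow_mul]; exact Nat.pow_sub_one_dvd_pow_sub_one q hx)

theorem add {e : ℕ} (h1 : 1 ≤ e) (h2 : 2 * e ≤ d) : Dg Q d (Q ^ e + 1) :=
  (sub (by omega) h2).of_dvd (add_dvd_sub Q e)

theorem add' {q e : ℕ} (h1 : 1 ≤ e) (h2 : e ≤ d) : Dg (q ^ 2) d (q ^ e + 1) :=
  (sub h1 h2).of_dvd (by rw [← pow_mul]; exact add_dvd_sub q e)

theorem prod {S : Finset ℕ} {f : ℕ → ℕ} (h : ∀ i ∈ S, Dg Q d (f i)) : Dg Q d (∏ i ∈ S, f i) := fun s hs h1 h2 => by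
  obtain ⟨i, hi, h3⟩ := (Prime.dvd_finsetProd_iff hs.prime _).1 h1
  exact h i hi s hs h3 h2

end Dg

/-! ### the families -/

section fam

variable {K : Type} [Field K] [Fintype K]

theorem dg_psl {N : ℕ} (hN : 2 ≤ N) : Dg (Fintype.card K) N (Nat.card (ProjectiveSpecialLinearGroup (Fin N) K)) := by
  refine Dg.of_dvd (N' := Nat.card (SpecialLinearGroup (Fin N) K)) ?_ (Subgroup.card_quotient_dvd_card _)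
  rw [H953.card_SL N (by omega)]
  refine (Dg.pow _).mul (Dg.prod fun i hi => ?_)
  rw [Finset.mem_Icc] at hi
  exact Dg.sub (by omega) hi.2

theorem dg_psp (l : ℕ) : Dg (Fintype.card K) (2 * l) (Nat.card (PSp l K)) := by
  refine Dg.of_dvd (N' := Nat.card (symplecticGroup (Fin l) K)) ?_ (Subgroup.card_quotient_dvd_card _)
  rw [S0245.result (F := K) rfl l]
  refine (Dg.pow _).mul (Dg.prod fun i hi => ?_)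
  rw [Finset.mem_range] at hi
  exact Dg.sub (by omega) (by omega)

theorem dg_podd {l : ℕ} (hl : 3 ≤ l) (hodd : Odd (Fintype.card K)) :
    Dg (Fintype.card K) (2 * l) (Nat.card (POmega K (quadFormOdd l K))) := by
  refine Dg.of_mul (S0292.result (F := K) rfl hodd l hl) ((Dg.pow _).mul (Dg.prod fun i hi => ?_))
  rw [Finset.mem_range] at hi
  exact Dg.sub (by omega) (by omega)

theorem dg_pplus {l : ℕ} (hl : 4 ≤ l) : Dg (Fintype.card K) (2 * l - 2) (Nat.card (POmega K (quadFormPlus l K))) := by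
  refine Dg.of_mul (S0293.result (F := K) rfl l hl)
    (((Dg.pow _).mul (Dg.sub (by omega) (by omega))).mul (Dg.prod fun i hi => ?_))
  rw [Finset.mem_range] at hi
  exact Dg.sub (by omega) (by omega)

theorem dg_pminus {l : ℕ} (hl : 4 ≤ l) {a b : K}
    (hab : ∀ z₁ z₂ : K, z₁ ^ 2 + a * z₁ * z₂ + b * z₂ ^ 2 = 0 → z₁ = 0 ∧ z₂ = 0) :
    Dg (Fintype.card K) (2 * l) (Nat.card (POmega K (quadFormMinus (l - 1) K a b))) := by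
  refine Dg.of_mul (S0294.result (F := K) rfl l hl a b hab)
    (((Dg.pow _).mul (Dg.add (by omega) le_rfl)).mul (Dg.prod fun i hi => ?_))
  rw [Finset.mem_range] at hi
  exact Dg.sub (by omega) (by omega)

theorem dg_psu {N q : ℕ} (hN : 2 ≤ N) (hK : Fintype.card K = q ^ 2) :
    Dg (Fintype.card K) (2 * ((N - 1) / 2) + 1) (Nat.card (PSU N K q)) := fun s hs h1 h2 => by
  rw [hK] at h2 ⊢
  exact H69.Ppd.dvd_of_card_psu hN hK hs (fun h3 => h2 (dvd_pow h3 two_ne_zero)) h1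

theorem dg_g2 : Dg (Fintype.card K) 6 (Nat.card (Lie.chevG2.group K)) := by
  rw [S1059.result (F := K) rfl]
  exact ((Dg.pow _).mul (Dg.sub (by norm_num) (by norm_num))).mul (Dg.sub (by norm_num) le_rfl)

theorem dg_f4 : Dg (Fintype.card K) 12 (Nat.card (Lie.chevF4.group K)) := by
  rw [S1062.result (F := K) rfl]
  (refine Dg.mul ?_ ?_; refine Dg.mul ?_ ?_; refine Dg.mul ?_ ?_; refine Dg.mul ?_ ?_; exact Dg.pow _; (exact Dg.sub (by norm_num) (by norm_num)); (exact Dg.sub (by norm_num) (by norm_num)); (exact Dg.sub (by norm_num) (by norm_num)); (exact Dg.sub (by norm_num) (by norm_num)))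

theorem dg_e6 : Dg (Fintype.card K) 12 (Nat.card (Lie.chevE6.group K)) := by
  refine Dg.of_mul (S1063.result (F := K) rfl) ?_
  (refine Dg.mul ?_ ?_; refine Dg.mul ?_ ?_; refine Dg.mul ?_ ?_; refine Dg.mul ?_ ?_; refine Dg.mul ?_ ?_; refine Dg.mul ?_ ?_; exact Dg.pow _; (exact Dg.sub (by norm_num) (by norm_num)); (exact Dg.sub (by norm_num) (by norm_num)); (exact Dg.sub (by norm_num) (by norm_num)); (exact Dg.sub (by norm_num) (by norm_num)); (exact Dg.sub (by norm_num) (by norm_num)); (exact Dg.sub (by norm_num) (by norm_num)))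

theorem dg_e7 : Dg (Fintype.card K) 18 (Nat.card (Lie.chevE7.group K)) := by
  refine Dg.of_mul (S1064.result (F := K) rfl) ?_
  (refine Dg.mul ?_ ?_; refine Dg.mul ?_ ?_; refine Dg.mul ?_ ?_; refine Dg.mul ?_ ?_; refine Dg.mul ?_ ?_; refine Dg.mul ?_ ?_; refine Dg.mul ?_ ?_; exact Dg.pow _; (exact Dg.sub (by norm_num) (by norm_num)); (exact Dg.sub (by norm_num) (by norm_num)); (exact Dg.sub (by norm_num) (by norm_num)); (exact Dg.sub (by norm_num) (by norm_num)); (exact Dg.sub (by norm_num) (by norm_num)); (exact Dg.sub (by norm_num) (by norm_num)); (exact Dg.sub (by norm_num) (by norm_num)))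

theorem dg_e8 : Dg (Fintype.card K) 30 (Nat.card (Lie.chevE8.group K)) := by
  rw [S1065.result (F := K) rfl]
  (refine Dg.mul ?_ ?_; refine Dg.mul ?_ ?_; refine Dg.mul ?_ ?_; refine Dg.mul ?_ ?_; refine Dg.mul ?_ ?_; refine Dg.mul ?_ ?_; refine Dg.mul ?_ ?_; refine Dg.mul ?_ ?_; exact Dg.pow _; (exact Dg.sub (by norm_num) (by norm_num)); (exact Dg.sub (by norm_num) (by norm_num)); (exact Dg.sub (by norm_num) (by norm_num)); (exact Dg.sub (by norm_num) (by norm_num)); (exact Dg.sub (by norm_num) (by norm_num)); (exact Dg.sub (by norm_num) (by norm_num)); (exact Dg.sub (by norm_num) (by norm_num)); (exact Dg.sub (by norm_num) (by norm_num)))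

theorem dg_2e6 {q : ℕ} (hq : IsPrimePow q) (hK : Fintype.card K = q ^ 2) :
    Dg (Fintype.card K) 9 (Nat.card (Lie.twistedE6 K q)) := by
  refine Dg.of_mul (S1066.result hq hK) ?_
  rw [hK]
  exact (((((((Dg.pow' two_ne_zero _).mul (Dg.sub' (e := 1) le_rfl (by norm_num) (by norm_num))).mul
    (Dg.add' (by norm_num) (by norm_num))).mul (Dg.sub' (e := 3) (by norm_num) (by norm_num) (by norm_num))).mul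
    (Dg.sub' (e := 4) (by norm_num) (by norm_num) (by norm_num))).mul (Dg.add' (by norm_num) (by norm_num))).mul
    (Dg.sub' (e := 6) (by norm_num) (by norm_num) (by norm_num)))

theorem tri_dvd (x : ℕ) : x ^ 2 + x + 1 ∣ x ^ 3 - 1 := by
  rcases Nat.eq_zero_or_pos x with rfl | hx
  · simp
  obtain ⟨y, rfl⟩ : ∃ y, x = y + 1 := ⟨x - 1, by omega⟩
  refine ⟨y, ?_⟩
  apply Nat.sub_eq_of_eq_add
  ring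

theorem dg_sz {l : ℕ} (hl : 1 ≤ l) (hK : Fintype.card K = 2 ^ (2 * l + 1)) :
    Dg (Fintype.card K) 4 (Nat.card (Lie.Sz K (2 ^ (l + 1)))) := fun s hs h1 h2 => by
  rw [(S1163.result hl hK).1, ← hK] at h1
  exact ⟨4, by norm_num, le_rfl, H909.Ppd.dvd_aux hs h2 h1⟩

theorem dg_ree {l : ℕ} (hK : Fintype.card K = 3 ^ (2 * l + 1)) :
    Dg (Fintype.card K) 6 (Nat.card (Lie.twistedG2 K (3 ^ l))) := fun s hs h1 h2 => by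
  rw [LieRecognition.ReeFinal.card hK, ← hK] at h1
  exact ⟨6, by norm_num, le_rfl, H909.Ppd.dvd_six hs h2 h1⟩

theorem dg_2f4 {l : ℕ} (hK : Fintype.card K = 2 ^ (2 * l + 1)) :
    Dg (Fintype.card K) 12 (Nat.card (Lie.twistedF4 K (2 ^ l))) := by
  rw [S1068.result hK, ← hK]
  refine ((((Dg.pow _).mul ?_).mul (Dg.add (by norm_num) (by norm_num))).mul (Dg.sub (by norm_num) (by norm_num))).mul
    (Dg.add (by norm_num) (by norm_num))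
  have := Dg.sub (Q := Fintype.card K) (d := 12) (e := 1) le_rfl (by norm_num)
  rwa [pow_one] at this

end fam

/-! ### tight cores -/

theorem exists_exp (F : Type u) [Field F] [Finite F] (p : ℕ) [CharP F p] : ∃ a, 0 < a ∧ Nat.card F = p ^ a := by
  have := Fintype.ofFinite F
  obtain ⟨a, -, ha⟩ := FiniteField.card F p
  exact ⟨a, a.pos, by rw [Nat.card_eq_fintype_card, ha]⟩

variable {n : ℕ} {F : Type u} [Field F] [Finite F] {m : ℕ} {P : Subgroup (GL (Fin n) F)}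

namespace Tc

variable (h : Tc m P)
include h

/-- **Large primes of `th |F| m` divide the order of the socle.** -/
theorem dvd_card {T : Type v} [Group T] (e : Soc P ≃* T) {p b d r : ℕ} (hp : p.Prime) (hT : H462.Ppd.FD T p)
    (hD : Dg (p ^ b) d (Nat.card T)) (hr : r.Prime) (h7 : 7 ≤ r) (hb : ¬ r ∣ b) (hd : d < r)
    (hth : r ∣ th (Nat.card F) m) : r ∣ Nat.card T := by
  have : Finite T := Finite.of_equiv _ e.toEquiv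
  refine Tool.dvd_of_FD (L := b * d.factorial) hp hT (fun s hs h1 h2 => ?_) hr h7 (fun h1 => ?_) ?_
  · obtain ⟨x, hx1, hx2, h3⟩ := hD s hs h1 fun h3 => h2 ((Nat.prime_dvd_prime_iff_eq hs hp).1 (hs.dvd_of_dvd_pow h3))
    rw [← pow_mul] at h3
    exact h3.trans (Nat.pow_sub_one_dvd_pow_sub_one p (Nat.mul_dvd_mul_left _ (Nat.dvd_factorial hx1 hx2)))
  · rcases hr.dvd_mul.1 h1 with h2 | h2
    · exact hb h2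
    · have := hr.dvd_factorial.1 h2
      omega
  · rw [← Nat.card_congr (MulAut.congr e).toEquiv]
    exact hth.trans h.dvd_aut

/-- **`|F| ^ m ≤ Q ^ d`** -/
theorem le_of_dg {T : Type v} [Group T] (e : Soc P ≃* T) {p Q d : ℕ} [hp : Fact p.Prime] [CharP F p]
    (hT : H462.Ppd.FD T p) (hQ : ∃ b, 0 < b ∧ Q = p ^ b) (hd : 0 < d) (hD : Dg Q d (Nat.card T)) :
    Nat.card F ^ m ≤ Q ^ d := by
  obtain ⟨b, hb, rfl⟩ := hQ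
  obtain ⟨a, ha, hF⟩ := exists_exp F p
  obtain ⟨r, hr, h1, h2, h3, h4⟩ := h.top hp.out hF
  rw [hF, ← pow_mul, ← pow_mul]
  refine Nat.pow_le_pow_right hp.out.pos ?_
  by_contra h5
  have h6 := Nat.le_of_dvd (by have := hr.two_le; omega) h3
  have h7 := h.six
  have h8 : 1 * m ≤ a * m := Nat.mul_le_mul_right _ ha
  have h9 := hr.two_le
  have h10 : b * 1 ≤ b * d := Nat.mul_le_mul_left _ hd
  have h11 : 1 * d ≤ b * d := Nat.mul_le_mul_right _ hb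
  have h12 := h.dvd_card e hp.out hT hD hr (by omega) (fun h12 => by have := Nat.le_of_dvd hb h12; omega) (by omega) h1
  obtain ⟨x, hx1, hx2, h13⟩ := hD r hr h12 fun h13 => h4 (hr.dvd_of_dvd_pow h13)
  rw [← pow_mul, h2] at h13
  have h14 := Nat.le_of_dvd (Nat.mul_pos hb hx1) h13
  have h15 : b * x ≤ b * d := Nat.mul_le_mul_left _ hx2
  omega

omit h in
theorem lt_of' {Q j d : ℕ} (hj : Nat.card F ^ j = Q) (hlt : Nat.card F ^ m < Q ^ d) : m < j * d := by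
  rw [← hj, ← pow_mul] at hlt
  exact (Nat.pow_lt_pow_iff_right Finite.one_lt_card).1 hlt

/-- the dimension below the borderline -/
theorem lt_of {Q j d : ℕ} (hj : Nat.card F ^ j = Q) (hlt : Nat.card F ^ m < Q ^ d) : n < 2 * (j * d) := by
  have h1 := lt_of' hj hlt
  have h2 := h.hi
  omega

omit h in
theorem le_of' {Q j d : ℕ} (hj : Nat.card F ^ j = Q) (hle : Nat.card F ^ m ≤ Q ^ d) : m ≤ j * d := by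
  rw [← hj, ← pow_mul] at hle
  exact (Nat.pow_le_pow_iff_right Finite.one_lt_card).1 hle

end Tc

end Cfsg.Agent.SM.Ti
end

-- part: SM/Ti/IdxE
section
/-!
# S3570 : indices of parabolic subgroups of the Weyl groups of type `E` (helper69)
-/

set_option autoImplicit false
set_option linter.style.longLine false

namespace Cfsg.Agent.SM.Ti.Lo

open CoxeterSystem Cfsg.Agent.ChevalleyStructure.CoxeterGeom Cfsg.Agent.Tits.Roots Cfsg.Agent.Tits.Core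
  Cfsg.Agent.H905.DC

theorem index_E6 {W : Type*} [Group W] [Finite W] (cs : CoxeterSystem CoxeterMatrix.E₆ W) {J : Set (Fin 6)} {i : Fin 6}
    (hi : i ∉ J) : 26 ≤ (WJ cs J).index := by
  fin_cases i
  · exact H2.Ppd.index_ge cs isCartan_cE6 hi (beta% delta% lq262b4d3c1c fun a b _ e _ g =>
 (e (a 0<|a 0<|a 0<|a 0<|a (-1)<|a 1<|b)<|e (a 0<|a 0<|a 0<|a (-1)<|a 1<|a 0<|b)<|e (a 0<|a (-1)<|a (-1)<|a 1<|a 0<|a 0<|b)<|e (a 0<|a 1<|a (-1)<|a 0<|a 0<|a 0<|b)<|e (a (-1)<|a (-1)<|a 1<|a 0<|a 0<|a 0<|b)<|e (a 1<|a (-1)<|a 0<|a 0<|a 0<|a 0<|b)<|e (a (-1)<|a 1<|a 1<|a (-1)<|a 0<|a 0<|b)<|e (a 1<|a 1<|a 0<|a (-1)<|a 0<|a 0<|b)<|e (a (-1)<|a 0<|a 0<|a 1<|a (-1)<|a 0<|b)<|e (a 1<|a 0<|a (-1)<|a 1<|a (-1)<|a 0<|b)<|e (a (-1)<|a 0<|a 0<|a 0<|a 1<|a (-1)<|b)<|e (a 0<|a 0<|a 1<|a 0<|a (-1)<|a 0<|b)<|e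 (a 1<|a 0<|a (-1)<|a 0<|a 1<|a (-1)<|b)<|e (a (-1)<|a 0<|a 0<|a 0<|a 0<|a 1<|b)<|e (a 0<|a 0<|a 1<|a (-1)<|a 1<|a (-1)<|b)<|e (a 1<|a 0<|a (-1)<|a 0<|a 0<|a 1<|b)<|e (a 0<|a (-1)<|a 0<|a 1<|a 0<|a (-1)<|b)<|e (a 0<|a 0<|a 1<|a (-1)<|a 0<|a 1<|b)<|e (a 0<|a 1<|a 0<|a 0<|a 0<|a (-1)<|b)<|e (a 0<|a (-1)<|a 0<|a 1<|a (-1)<|a 1<|b)<|e (a 0<|a 1<|a 0<|a 0<|a (-1)<|a 1<|b)<|e (a 0<|a (-1)<|a 0<|a 0<|a 1<|a 0<|b)<|e (a 0<|a 1<|a 0<|a (-1)<|a 1<|a 0<|b)<|e (a 0<|a 0<|a (-1)<|a 1<|a 0<|a 0<|b)<|e (a (-1)<|a 0<|a 1<|a 0<|a 0<|a 0<|b)<|e (a 1<|a 0<|a 0<|a 0<|a 0<|a 0<|b)<|g)) (by decide +kernel)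
  · exact H2.Ppd.index_ge cs isCartan_cE6 hi (beta% delta% lq262b4d3c1c fun a b _ e _ g =>
 (e (a 0<|a 0<|a 0<|a (-1)<|a 1<|a 1<|b)<|e (a 1<|a (-1)<|a 0<|a 1<|a (-1)<|a 0<|b)<|e (a (-1)<|a 1<|a 1<|a 0<|a (-1)<|a 0<|b)<|e (a 0<|a 1<|a (-1)<|a 0<|a 1<|a (-1)<|b)<|e (a (-1)<|a (-1)<|a 1<|a 0<|a 1<|a (-1)<|b)<|e (a 0<|a (-1)<|a (-1)<|a 1<|a 0<|a 1<|b)<|e (a 1<|a 1<|a 0<|a 0<|a (-1)<|a 0<|b)<|e (a 1<|a (-1)<|a 0<|a 0<|a 1<|a (-1)<|b)<|e (a (-1)<|a 1<|a 1<|a (-1)<|a 1<|a (-1)<|b)<|e (a 0<|a 1<|a (-1)<|a 0<|a 0<|a 1<|b)<|e (a (-1)<|a (-1)<|a 1<|a 0<|a 0<|a 1<|b)<|e (a 1<|a 1<|a 0<|a (-1)<|a 1<|a (-1)<|b)<|e (a 1<|a (-1)<|a 0<|a 0<|a 0<|a 1<|b)<|e (a (-1)<|a 0<|a 0<|a 1<|a 0<|a (-1)<|b)<|e (a (-1)<|a 1<|a 1<|a (-1)<|a 0<|a 1<|b)<|e (a 1<|a 0<|a (-1)<|a 1<|a 0<|a (-1)<|b)<|e (a 1<|a 1<|a 0<|a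 (-1)<|a 0<|a 1<|b)<|e (a (-1)<|a 0<|a 0<|a 1<|a (-1)<|a 1<|b)<|e (a 0<|a 0<|a 1<|a 0<|a 0<|a (-1)<|b)<|e (a 1<|a 0<|a (-1)<|a 1<|a (-1)<|a 1<|b)<|e (a (-1)<|a 0<|a 0<|a 0<|a 1<|a 0<|b)<|e (a 0<|a 0<|a 1<|a 0<|a (-1)<|a 1<|b)<|e (a 1<|a 0<|a (-1)<|a 0<|a 1<|a 0<|b)<|e (a 0<|a 0<|a 1<|a (-1)<|a 1<|a 0<|b)<|e (a 0<|a (-1)<|a 0<|a 1<|a 0<|a 0<|b)<|e (a 0<|a 1<|a 0<|a 0<|a 0<|a 0<|b)<|g)) (by decide +kernel)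
  · exact H2.Ppd.index_ge cs isCartan_cE6 hi (beta% delta% lq262b4d3c1c fun a b _ e _ g =>
 (e (a 1<|a 0<|a 1<|a (-1)<|a 1<|a (-1)<|b)<|e (a 2<|a 0<|a (-1)<|a 0<|a 0<|a 1<|b)<|e (a 0<|a 1<|a (-1)<|a 1<|a 0<|a (-1)<|b)<|e (a 0<|a 2<|a 0<|a (-1)<|a 0<|a 1<|b)<|e (a (-1)<|a (-1)<|a 1<|a 1<|a 0<|a (-1)<|b)<|e (a (-1)<|a 0<|a 2<|a (-1)<|a 0<|a 1<|b)<|e (a 0<|a (-1)<|a (-1)<|a 2<|a (-1)<|a 1<|b)<|e (a 0<|a 0<|a 0<|a (-1)<|a 2<|a 0<|b)<|e (a 1<|a (-1)<|a 0<|a 1<|a 0<|a (-1)<|b)<|e (a 1<|a 0<|a 1<|a (-1)<|a 0<|a 1<|b)<|e (a (-1)<|a 1<|a 1<|a 0<|a 0<|a (-1)<|b)<|e (a 0<|a 1<|a (-1)<|a 1<|a (-1)<|a 1<|b)<|e (a (-1)<|a (-1)<|a 1<|a 1<|a (-1)<|a 1<|b)<|e (a 0<|a (-1)<|a (-1)<|a 1<|a 1<|a 0<|b)<|e (a 1<|a 1<|a 0<|a 0<|a 0<|a (-1)<|b)<|e (a 1<|a (-1)<|a 0<|a 1<|a (-1)<|a 1<|b)<|e (a (-1)<|a 1<|a 1<|a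 0<|a (-1)<|a 1<|b)<|e (a 0<|a 1<|a (-1)<|a 0<|a 1<|a 0<|b)<|e (a (-1)<|a (-1)<|a 1<|a 0<|a 1<|a 0<|b)<|e (a 1<|a 1<|a 0<|a 0<|a (-1)<|a 1<|b)<|e (a 1<|a (-1)<|a 0<|a 0<|a 1<|a 0<|b)<|e (a (-1)<|a 1<|a 1<|a (-1)<|a 1<|a 0<|b)<|e (a 1<|a 1<|a 0<|a (-1)<|a 1<|a 0<|b)<|e (a (-1)<|a 0<|a 0<|a 1<|a 0<|a 0<|b)<|e (a 1<|a 0<|a (-1)<|a 1<|a 0<|a 0<|b)<|e (a 0<|a 0<|a 1<|a 0<|a 0<|a 0<|b)<|g)) (by decide +kernel)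
  · exact H2.Ppd.index_ge cs isCartan_cE6 hi (beta% delta% lq262b4d3c1c fun a b _ e _ g =>
 (e (a (-1)<|a 2<|a 1<|a (-1)<|a 0<|a 1<|b)<|e (a 0<|a 0<|a 2<|a (-1)<|a 1<|a (-1)<|b)<|e (a 2<|a 0<|a (-2)<|a 1<|a 0<|a 1<|b)<|e (a 1<|a (-1)<|a (-1)<|a 2<|a 0<|a (-1)<|b)<|e (a 1<|a 1<|a 1<|a (-2)<|a 1<|a 1<|b)<|e (a 1<|a 0<|a 0<|a 1<|a (-2)<|a 2<|b)<|e (a (-1)<|a (-1)<|a 0<|a 2<|a (-1)<|a 1<|b)<|e (a (-1)<|a 0<|a 1<|a (-1)<|a 2<|a 0<|b)<|e (a 1<|a 1<|a (-1)<|a 1<|a 0<|a (-1)<|b)<|e (a 1<|a 2<|a 0<|a (-1)<|a 0<|a 1<|b)<|e (a (-1)<|a 1<|a 0<|a 1<|a (-1)<|a 1<|b)<|e (a 0<|a (-1)<|a 1<|a 1<|a 0<|a (-1)<|b)<|e (a 0<|a 0<|a 2<|a (-1)<|a 0<|a 1<|b)<|e (a 1<|a (-1)<|a (-1)<|a 2<|a (-1)<|a 1<|b)<|e (a 1<|a 0<|a 0<|a (-1)<|a 2<|a 0<|b)<|e (a (-1)<|a (-1)<|a 0<|a 1<|a 1<|a 0<|b)<|e (a 0<|a 1<|a 1<|a 0<|a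 0<|a (-1)<|b)<|e (a 1<|a 1<|a (-1)<|a 1<|a (-1)<|a 1<|b)<|e (a (-1)<|a 1<|a 0<|a 0<|a 1<|a 0<|b)<|e (a 0<|a (-1)<|a 1<|a 1<|a (-1)<|a 1<|b)<|e (a 1<|a (-1)<|a (-1)<|a 1<|a 1<|a 0<|b)<|e (a 0<|a 1<|a 1<|a 0<|a (-1)<|a 1<|b)<|e (a 1<|a 1<|a (-1)<|a 0<|a 1<|a 0<|b)<|e (a 0<|a (-1)<|a 1<|a 0<|a 1<|a 0<|b)<|e (a 0<|a 1<|a 1<|a (-1)<|a 1<|a 0<|b)<|e (a 0<|a 0<|a 0<|a 1<|a 0<|a 0<|b)<|g)) (by decide +kernel)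
  · exact H2.Ppd.index_ge cs isCartan_cE6 hi (beta% delta% lq262b4d3c1c fun a b _ e _ g =>
 (e (a 1<|a 2<|a 0<|a (-1)<|a 0<|a 0<|b)<|e (a (-1)<|a 1<|a 0<|a 1<|a (-1)<|a 0<|b)<|e (a 0<|a 0<|a 2<|a (-1)<|a 0<|a 0<|b)<|e (a 1<|a (-1)<|a (-1)<|a 2<|a (-1)<|a 0<|b)<|e (a 1<|a 0<|a 0<|a (-1)<|a 2<|a (-1)<|b)<|e (a 1<|a 0<|a 0<|a 0<|a (-1)<|a 2<|b)<|e (a (-1)<|a (-1)<|a 0<|a 1<|a 1<|a (-1)<|b)<|e (a (-1)<|a 0<|a 1<|a (-1)<|a 1<|a 1<|b)<|e (a 1<|a 1<|a (-1)<|a 1<|a (-1)<|a 0<|b)<|e (a (-1)<|a 1<|a 0<|a 0<|a 1<|a (-1)<|b)<|e (a 0<|a (-1)<|a 1<|a 1<|a (-1)<|a 0<|b)<|e (a 1<|a (-1)<|a (-1)<|a 1<|a 1<|a (-1)<|b)<|e (a 1<|a 0<|a 0<|a (-1)<|a 1<|a 1<|b)<|e (a (-1)<|a (-1)<|a 0<|a 1<|a 0<|a 1<|b)<|e (a 0<|a 1<|a 1<|a 0<|a (-1)<|a 0<|b)<|e (a 1<|a 1<|a (-1)<|a 0<|a 1<|a (-1)<|b)<|e (a (-1)<|a 1<|a 0<|a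 0<|a 0<|a 1<|b)<|e (a 0<|a (-1)<|a 1<|a 0<|a 1<|a (-1)<|b)<|e (a 1<|a (-1)<|a (-1)<|a 1<|a 0<|a 1<|b)<|e (a 0<|a 1<|a 1<|a (-1)<|a 1<|a (-1)<|b)<|e (a 1<|a 1<|a (-1)<|a 0<|a 0<|a 1<|b)<|e (a 0<|a (-1)<|a 1<|a 0<|a 0<|a 1<|b)<|e (a 0<|a 0<|a 0<|a 1<|a 0<|a (-1)<|b)<|e (a 0<|a 1<|a 1<|a (-1)<|a 0<|a 1<|b)<|e (a 0<|a 0<|a 0<|a 1<|a (-1)<|a 1<|b)<|e (a 0<|a 0<|a 0<|a 0<|a 1<|a 0<|b)<|g)) (by decide +kernel)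
  · exact H2.Ppd.index_ge cs isCartan_cE6 hi (beta% delta% lq262b4d3c1c fun a b _ e _ g =>
 (e (a 1<|a 0<|a (-1)<|a 0<|a 0<|a 0<|b)<|e (a 0<|a 0<|a 1<|a (-1)<|a 0<|a 0<|b)<|e (a 0<|a (-1)<|a 0<|a 1<|a (-1)<|a 0<|b)<|e (a 0<|a 1<|a 0<|a 0<|a (-1)<|a 0<|b)<|e (a 0<|a (-1)<|a 0<|a 0<|a 1<|a (-1)<|b)<|e (a 0<|a 1<|a 0<|a (-1)<|a 1<|a (-1)<|b)<|e (a 0<|a (-1)<|a 0<|a 0<|a 0<|a 1<|b)<|e (a 0<|a 0<|a (-1)<|a 1<|a 0<|a (-1)<|b)<|e (a 0<|a 1<|a 0<|a (-1)<|a 0<|a 1<|b)<|e (a (-1)<|a 0<|a 1<|a 0<|a 0<|a (-1)<|b)<|e (a 0<|a 0<|a (-1)<|a 1<|a (-1)<|a 1<|b)<|e (a 1<|a 0<|a 0<|a 0<|a 0<|a (-1)<|b)<|e (a (-1)<|a 0<|a 1<|a 0<|a (-1)<|a 1<|b)<|e (a 0<|a 0<|a (-1)<|a 0<|a 1<|a 0<|b)<|e (a 1<|a 0<|a 0<|a 0<|a (-1)<|a 1<|b)<|e (a (-1)<|a 0<|a 1<|a (-1)<|a 1<|a 0<|b)<|e (a 1<|a 0<|a 0<|a (-1)<|a 1<|a 0<|b)<|e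 (a (-1)<|a (-1)<|a 0<|a 1<|a 0<|a 0<|b)<|e (a (-1)<|a 1<|a 0<|a 0<|a 0<|a 0<|b)<|e (a 1<|a (-1)<|a (-1)<|a 1<|a 0<|a 0<|b)<|e (a 1<|a 1<|a (-1)<|a 0<|a 0<|a 0<|b)<|e (a 0<|a (-1)<|a 1<|a 0<|a 0<|a 0<|b)<|e (a 0<|a 1<|a 1<|a (-1)<|a 0<|a 0<|b)<|e (a 0<|a 0<|a 0<|a 1<|a (-1)<|a 0<|b)<|e (a 0<|a 0<|a 0<|a 0<|a 1<|a (-1)<|b)<|e (a 0<|a 0<|a 0<|a 0<|a 0<|a 1<|b)<|g)) (by decide +kernel)

theorem index_E7 {W : Type*} [Group W] [Finite W] (cs : CoxeterSystem CoxeterMatrix.E₇ W) {J : Set (Fin 7)} {i : Fin 7}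
    (hi : i ∉ J) : 38 ≤ (WJ cs J).index := by
  fin_cases i
  · exact H2.Ppd.index_ge cs isCartan_cE7 hi (beta% delta% lq262b4d3c1c fun a b _ e f g =>
 (let d:=(let d:=(let d:=(f (a 0<|a (-1)<|a 0<|a 0<|a 1<|a 0<|a 0<|b)<|f (a 0<|a 1<|a 0<|a (-1)<|a 1<|a 0<|a 0<|b)<|f (a 0<|a 0<|a (-1)<|a 1<|a 0<|a 0<|a 0<|b)<|f (a (-1)<|a 0<|a 1<|a 0<|a 0<|a 0<|a 0<|b)<|f (a 1<|a 0<|a 0<|a 0<|a 0<|a 0<|a 0<|b)<|g);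
 (f (a 0<|a (-1)<|a 0<|a 1<|a 0<|a (-1)<|a 1<|b)<|f (a 0<|a 0<|a 1<|a (-1)<|a 0<|a 1<|a 0<|b)<|f (a 0<|a 1<|a 0<|a 0<|a 0<|a (-1)<|a 1<|b)<|f (a 0<|a (-1)<|a 0<|a 1<|a (-1)<|a 1<|a 0<|b)<|f (a 0<|a 1<|a 0<|a 0<|a (-1)<|a 1<|a 0<|b)<|d));
 (let d:=(f (a (-1)<|a 0<|a 0<|a 0<|a 0<|a 1<|a 0<|b)<|f (a 0<|a (-1)<|a 0<|a 1<|a 0<|a 0<|a (-1)<|b)<|f (a 0<|a 0<|a 1<|a (-1)<|a 1<|a (-1)<|a 1<|b)<|f (a 1<|a 0<|a (-1)<|a 0<|a 0<|a 1<|a 0<|b)<|f (a 0<|a 1<|a 0<|a 0<|a 0<|a 0<|a (-1)<|b)<|d);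
 (f (a (-1)<|a 0<|a 0<|a 0<|a 1<|a (-1)<|a 1<|b)<|f (a 0<|a 0<|a 1<|a (-1)<|a 1<|a 0<|a (-1)<|b)<|f (a 0<|a 0<|a 1<|a 0<|a (-1)<|a 0<|a 1<|b)<|f (a 1<|a 0<|a (-1)<|a 0<|a 1<|a (-1)<|a 1<|b)<|d)));
 (let d:=(let d:=(f (a (-1)<|a 0<|a 0<|a 0<|a 1<|a 0<|a (-1)<|b)<|f (a (-1)<|a 0<|a 0<|a 1<|a (-1)<|a 0<|a 1<|b)<|f (a 0<|a 0<|a 1<|a 0<|a (-1)<|a 1<|a (-1)<|b)<|f (a 1<|a 0<|a (-1)<|a 0<|a 1<|a 0<|a (-1)<|b)<|f (a 1<|a 0<|a (-1)<|a 1<|a (-1)<|a 0<|a 1<|b)<|d);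
 (f (a (-1)<|a 0<|a 0<|a 1<|a (-1)<|a 1<|a (-1)<|b)<|f (a (-1)<|a 1<|a 1<|a (-1)<|a 0<|a 0<|a 1<|b)<|f (a 0<|a 0<|a 1<|a 0<|a 0<|a (-1)<|a 0<|b)<|f (a 1<|a 0<|a (-1)<|a 1<|a (-1)<|a 1<|a (-1)<|b)<|f (a 1<|a 1<|a 0<|a (-1)<|a 0<|a 0<|a 1<|b)<|d));
 (let d:=(f (a 0<|a 1<|a (-1)<|a 0<|a 0<|a 0<|a 1<|b)<|f (a (-1)<|a (-1)<|a 1<|a 0<|a 0<|a 0<|a 1<|b)<|f (a 1<|a 0<|a (-1)<|a 1<|a 0<|a (-1)<|a 0<|b)<|f (a 1<|a 1<|a 0<|a (-1)<|a 0<|a 1<|a (-1)<|b)<|f (a 1<|a (-1)<|a 0<|a 0<|a 0<|a 0<|a 1<|b)<|d);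
 (e (a 1<|a 1<|a 0<|a (-1)<|a 1<|a (-1)<|a 0<|b)<|e (a 1<|a (-1)<|a 0<|a 0<|a 0<|a 1<|a (-1)<|b)<|e (a (-1)<|a 0<|a 0<|a 1<|a 0<|a (-1)<|a 0<|b)<|e (a (-1)<|a 1<|a 1<|a (-1)<|a 0<|a 1<|a (-1)<|b)<|d))))) (by decide +kernel)
  · exact H2.Ppd.index_ge cs isCartan_cE7 hi (beta% delta% lq262b4d3c1c fun a b _ e f g =>
 (let d:=(let d:=(let d:=(f (a 0<|a 0<|a 1<|a 0<|a (-1)<|a 1<|a 0<|b)<|f (a 1<|a 0<|a (-1)<|a 0<|a 1<|a 0<|a 0<|b)<|f (a 0<|a 0<|a 1<|a (-1)<|a 1<|a 0<|a 0<|b)<|f (a 0<|a (-1)<|a 0<|a 1<|a 0<|a 0<|a 0<|b)<|f (a 0<|a 1<|a 0<|a 0<|a 0<|a 0<|a 0<|b)<|g);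
 (f (a 1<|a 1<|a 0<|a (-1)<|a 0<|a 1<|a 0<|b)<|f (a (-1)<|a 0<|a 0<|a 1<|a (-1)<|a 1<|a 0<|b)<|f (a 0<|a 0<|a 1<|a 0<|a 0<|a (-1)<|a 1<|b)<|f (a 1<|a 0<|a (-1)<|a 1<|a (-1)<|a 1<|a 0<|b)<|f (a (-1)<|a 0<|a 0<|a 0<|a 1<|a 0<|a 0<|b)<|d));
 (let d:=(f (a 1<|a (-1)<|a 0<|a 0<|a 0<|a 1<|a 0<|b)<|f (a (-1)<|a 0<|a 0<|a 1<|a 0<|a (-1)<|a 1<|b)<|f (a (-1)<|a 1<|a 1<|a (-1)<|a 0<|a 1<|a 0<|b)<|f (a 0<|a 0<|a 1<|a 0<|a 0<|a 0<|a (-1)<|b)<|f (a 1<|a 0<|a (-1)<|a 1<|a 0<|a (-1)<|a 1<|b)<|d);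
 (f (a 0<|a 1<|a (-1)<|a 0<|a 0<|a 1<|a 0<|b)<|f (a (-1)<|a (-1)<|a 1<|a 0<|a 0<|a 1<|a 0<|b)<|f (a 1<|a 0<|a (-1)<|a 1<|a 0<|a 0<|a (-1)<|b)<|f (a 1<|a 1<|a 0<|a (-1)<|a 1<|a (-1)<|a 1<|b)<|d)));
 (let d:=(let d:=(f (a 1<|a 1<|a 0<|a (-1)<|a 1<|a 0<|a (-1)<|b)<|f (a 1<|a 1<|a 0<|a 0<|a (-1)<|a 0<|a 1<|b)<|f (a 1<|a (-1)<|a 0<|a 0<|a 1<|a (-1)<|a 1<|b)<|f (a (-1)<|a 0<|a 0<|a 1<|a 0<|a 0<|a (-1)<|b)<|f (a (-1)<|a 1<|a 1<|a (-1)<|a 1<|a (-1)<|a 1<|b)<|d);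
 (f (a (-1)<|a 1<|a 1<|a (-1)<|a 1<|a 0<|a (-1)<|b)<|f (a (-1)<|a 1<|a 1<|a 0<|a (-1)<|a 0<|a 1<|b)<|f (a 0<|a 1<|a (-1)<|a 0<|a 1<|a (-1)<|a 1<|b)<|f (a (-1)<|a (-1)<|a 1<|a 0<|a 1<|a (-1)<|a 1<|b)<|f (a 0<|a (-1)<|a (-1)<|a 1<|a 0<|a 1<|a 0<|b)<|d));
 (let d:=(f (a 0<|a (-1)<|a (-1)<|a 1<|a 1<|a (-1)<|a 1<|b)<|f (a 0<|a 0<|a 0<|a (-1)<|a 1<|a 1<|a 0<|b)<|f (a 1<|a 1<|a 0<|a 0<|a (-1)<|a 1<|a (-1)<|b)<|f (a 1<|a (-1)<|a 0<|a 0<|a 1<|a 0<|a (-1)<|b)<|f (a 1<|a (-1)<|a 0<|a 1<|a (-1)<|a 0<|a 1<|b)<|d);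
 (e (a 0<|a 1<|a (-1)<|a 0<|a 1<|a 0<|a (-1)<|b)<|e (a 0<|a 1<|a (-1)<|a 1<|a (-1)<|a 0<|a 1<|b)<|e (a (-1)<|a (-1)<|a 1<|a 0<|a 1<|a 0<|a (-1)<|b)<|e (a (-1)<|a (-1)<|a 1<|a 1<|a (-1)<|a 0<|a 1<|b)<|d))))) (by decide +kernel)
  · exact H2.Ppd.index_ge cs isCartan_cE7 hi (beta% delta% lq262b4d3c1c fun a b _ e f g =>
 (let d:=(let d:=(let d:=(f (a (-1)<|a 1<|a 1<|a (-1)<|a 1<|a 0<|a 0<|b)<|f (a 1<|a 1<|a 0<|a (-1)<|a 1<|a 0<|a 0<|b)<|f (a (-1)<|a 0<|a 0<|a 1<|a 0<|a 0<|a 0<|b)<|f (a 1<|a 0<|a (-1)<|a 1<|a 0<|a 0<|a 0<|b)<|f (a 0<|a 0<|a 1<|a 0<|a 0<|a 0<|a 0<|b)<|g);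
 (f (a (-1)<|a 1<|a 1<|a 0<|a (-1)<|a 1<|a 0<|b)<|f (a 0<|a 1<|a (-1)<|a 0<|a 1<|a 0<|a 0<|b)<|f (a (-1)<|a (-1)<|a 1<|a 0<|a 1<|a 0<|a 0<|b)<|f (a 1<|a 1<|a 0<|a 0<|a (-1)<|a 1<|a 0<|b)<|f (a 1<|a (-1)<|a 0<|a 0<|a 1<|a 0<|a 0<|b)<|d));
 (let d:=(f (a 0<|a 1<|a (-1)<|a 1<|a (-1)<|a 1<|a 0<|b)<|f (a (-1)<|a (-1)<|a 1<|a 1<|a (-1)<|a 1<|a 0<|b)<|f (a 0<|a (-1)<|a (-1)<|a 1<|a 1<|a 0<|a 0<|b)<|f (a 1<|a 1<|a 0<|a 0<|a 0<|a (-1)<|a 1<|b)<|f (a 1<|a (-1)<|a 0<|a 1<|a (-1)<|a 1<|a 0<|b)<|d);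
 (f (a 1<|a 1<|a 0<|a 0<|a 0<|a 0<|a (-1)<|b)<|f (a 1<|a (-1)<|a 0<|a 1<|a 0<|a (-1)<|a 1<|b)<|f (a 1<|a 0<|a 1<|a (-1)<|a 0<|a 1<|a 0<|b)<|f (a (-1)<|a 1<|a 1<|a 0<|a 0<|a (-1)<|a 1<|b)<|d)));
 (let d:=(let d:=(f (a 0<|a 2<|a 0<|a (-1)<|a 0<|a 1<|a 0<|b)<|f (a (-1)<|a (-1)<|a 1<|a 1<|a 0<|a (-1)<|a 1<|b)<|f (a (-1)<|a 0<|a 2<|a (-1)<|a 0<|a 1<|a 0<|b)<|f (a 0<|a (-1)<|a (-1)<|a 2<|a (-1)<|a 1<|a 0<|b)<|f (a 0<|a 0<|a 0<|a (-1)<|a 2<|a 0<|a 0<|b)<|d);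
 (f (a 1<|a (-1)<|a 0<|a 1<|a 0<|a 0<|a (-1)<|b)<|f (a 1<|a 0<|a 1<|a (-1)<|a 1<|a (-1)<|a 1<|b)<|f (a 2<|a 0<|a (-1)<|a 0<|a 0<|a 1<|a 0<|b)<|f (a (-1)<|a 1<|a 1<|a 0<|a 0<|a 0<|a (-1)<|b)<|f (a 0<|a 1<|a (-1)<|a 1<|a 0<|a (-1)<|a 1<|b)<|d));
 (let d:=(f (a (-1)<|a 0<|a 2<|a (-1)<|a 1<|a (-1)<|a 1<|b)<|f (a 1<|a 0<|a (-2)<|a 1<|a 0<|a 1<|a 0<|b)<|f (a 0<|a (-1)<|a (-1)<|a 2<|a 0<|a (-1)<|a 1<|b)<|f (a 0<|a 1<|a 1<|a (-2)<|a 1<|a 1<|a 0<|b)<|f (a 0<|a 0<|a 0<|a 1<|a (-2)<|a 2<|a 0<|b)<|d);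
 (e (a 0<|a 1<|a (-1)<|a 1<|a 0<|a 0<|a (-1)<|b)<|e (a 0<|a 2<|a 0<|a (-1)<|a 1<|a (-1)<|a 1<|b)<|e (a 0<|a (-2)<|a 0<|a 1<|a 0<|a 1<|a 0<|b)<|e (a (-1)<|a (-1)<|a 1<|a 1<|a 0<|a 0<|a (-1)<|b)<|d))))) (by decide +kernel)
  · exact H2.Ppd.index_ge cs isCartan_cE7 hi (beta% delta% lq262b4d3c1c fun a b _ e f g =>
 (let d:=(let d:=(let d:=(f (a 0<|a 1<|a 1<|a 0<|a (-1)<|a 1<|a 0<|b)<|f (a 1<|a 1<|a (-1)<|a 0<|a 1<|a 0<|a 0<|b)<|f (a 0<|a (-1)<|a 1<|a 0<|a 1<|a 0<|a 0<|b)<|f (a 0<|a 1<|a 1<|a (-1)<|a 1<|a 0<|a 0<|b)<|f (a 0<|a 0<|a 0<|a 1<|a 0<|a 0<|a 0<|b)<|g);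
 (f (a 0<|a 1<|a 1<|a 0<|a 0<|a (-1)<|a 1<|b)<|f (a 1<|a 1<|a (-1)<|a 1<|a (-1)<|a 1<|a 0<|b)<|f (a (-1)<|a 1<|a 0<|a 0<|a 1<|a 0<|a 0<|b)<|f (a 0<|a (-1)<|a 1<|a 1<|a (-1)<|a 1<|a 0<|b)<|f (a 1<|a (-1)<|a (-1)<|a 1<|a 1<|a 0<|a 0<|b)<|d));
 (let d:=(f (a 0<|a (-1)<|a 1<|a 1<|a 0<|a (-1)<|a 1<|b)<|f (a 0<|a 0<|a 2<|a (-1)<|a 0<|a 1<|a 0<|b)<|f (a 1<|a (-1)<|a (-1)<|a 2<|a (-1)<|a 1<|a 0<|b)<|f (a 1<|a 0<|a 0<|a (-1)<|a 2<|a 0<|a 0<|b)<|f (a (-1)<|a (-1)<|a 0<|a 1<|a 1<|a 0<|a 0<|b)<|d);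
 (f (a 0<|a 1<|a 1<|a 0<|a 0<|a 0<|a (-1)<|b)<|f (a 1<|a 1<|a (-1)<|a 1<|a 0<|a (-1)<|a 1<|b)<|f (a 1<|a 2<|a 0<|a (-1)<|a 0<|a 1<|a 0<|b)<|f (a (-1)<|a 1<|a 0<|a 1<|a (-1)<|a 1<|a 0<|b)<|d)));
 (let d:=(let d:=(f (a 1<|a (-1)<|a (-1)<|a 2<|a 0<|a (-1)<|a 1<|b)<|f (a 1<|a 1<|a 1<|a (-2)<|a 1<|a 1<|a 0<|b)<|f (a 1<|a 0<|a 0<|a 1<|a (-2)<|a 2<|a 0<|b)<|f (a (-1)<|a (-1)<|a 0<|a 2<|a (-1)<|a 1<|a 0<|b)<|f (a (-1)<|a 0<|a 1<|a (-1)<|a 2<|a 0<|a 0<|b)<|d);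
 (f (a (-1)<|a 1<|a 0<|a 1<|a 0<|a (-1)<|a 1<|b)<|f (a (-1)<|a 2<|a 1<|a (-1)<|a 0<|a 1<|a 0<|b)<|f (a 0<|a (-1)<|a 1<|a 1<|a 0<|a 0<|a (-1)<|b)<|f (a 0<|a 0<|a 2<|a (-1)<|a 1<|a (-1)<|a 1<|b)<|f (a 2<|a 0<|a (-2)<|a 1<|a 0<|a 1<|a 0<|b)<|d));
 (let d:=(f (a (-1)<|a 0<|a 1<|a 1<|a (-2)<|a 2<|a 0<|b)<|f (a 0<|a 0<|a (-1)<|a 0<|a 2<|a 0<|a 0<|b)<|f (a 1<|a 1<|a (-1)<|a 1<|a 0<|a 0<|a (-1)<|b)<|f (a 1<|a 2<|a 0<|a (-1)<|a 1<|a (-1)<|a 1<|b)<|f (a 1<|a (-2)<|a 0<|a 1<|a 0<|a 1<|a 0<|b)<|d);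
 (e (a 1<|a 0<|a 0<|a 1<|a 0<|a (-2)<|a 2<|b)<|e (a 1<|a 1<|a 1<|a (-1)<|a (-1)<|a 2<|a 0<|b)<|e (a (-1)<|a (-1)<|a 0<|a 2<|a 0<|a (-1)<|a 1<|b)<|e (a (-1)<|a 1<|a 2<|a (-2)<|a 1<|a 1<|a 0<|b)<|d))))) (by decide +kernel)
  · exact H2.Ppd.index_ge cs isCartan_cE7 hi (beta% delta% lq262b4d3c1c fun a b _ e f g =>
 (let d:=(let d:=(let d:=(f (a 0<|a (-1)<|a 1<|a 0<|a 0<|a 1<|a 0<|b)<|f (a 0<|a 0<|a 0<|a 1<|a 0<|a (-1)<|a 1<|b)<|f (a 0<|a 1<|a 1<|a (-1)<|a 0<|a 1<|a 0<|b)<|f (a 0<|a 0<|a 0<|a 1<|a (-1)<|a 1<|a 0<|b)<|f (a 0<|a 0<|a 0<|a 0<|a 1<|a 0<|a 0<|b)<|g);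
 (f (a 0<|a (-1)<|a 1<|a 0<|a 1<|a (-1)<|a 1<|b)<|f (a 1<|a (-1)<|a (-1)<|a 1<|a 0<|a 1<|a 0<|b)<|f (a 0<|a 0<|a 0<|a 1<|a 0<|a 0<|a (-1)<|b)<|f (a 0<|a 1<|a 1<|a (-1)<|a 1<|a (-1)<|a 1<|b)<|f (a 1<|a 1<|a (-1)<|a 0<|a 0<|a 1<|a 0<|b)<|d));
 (let d:=(f (a (-1)<|a (-1)<|a 0<|a 1<|a 0<|a 1<|a 0<|b)<|f (a 0<|a 1<|a 1<|a (-1)<|a 1<|a 0<|a (-1)<|b)<|f (a 0<|a 1<|a 1<|a 0<|a (-1)<|a 0<|a 1<|b)<|f (a 1<|a 1<|a (-1)<|a 0<|a 1<|a (-1)<|a 1<|b)<|f (a (-1)<|a 1<|a 0<|a 0<|a 0<|a 1<|a 0<|b)<|d);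
 (f (a 0<|a (-1)<|a 1<|a 0<|a 1<|a 0<|a (-1)<|b)<|f (a 0<|a (-1)<|a 1<|a 1<|a (-1)<|a 0<|a 1<|b)<|f (a 1<|a (-1)<|a (-1)<|a 1<|a 1<|a (-1)<|a 1<|b)<|f (a 1<|a 0<|a 0<|a (-1)<|a 1<|a 1<|a 0<|b)<|d)));
 (let d:=(let d:=(f (a (-1)<|a 0<|a 1<|a (-1)<|a 1<|a 1<|a 0<|b)<|f (a 0<|a 1<|a 1<|a 0<|a (-1)<|a 1<|a (-1)<|b)<|f (a 1<|a 1<|a (-1)<|a 0<|a 1<|a 0<|a (-1)<|b)<|f (a 1<|a 1<|a (-1)<|a 1<|a (-1)<|a 0<|a 1<|b)<|f (a (-1)<|a 1<|a 0<|a 0<|a 1<|a (-1)<|a 1<|b)<|d);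
 (f (a 1<|a (-1)<|a (-1)<|a 1<|a 1<|a 0<|a (-1)<|b)<|f (a 1<|a (-1)<|a (-1)<|a 2<|a (-1)<|a 0<|a 1<|b)<|f (a 1<|a 0<|a 0<|a (-1)<|a 2<|a (-1)<|a 1<|b)<|f (a 1<|a 0<|a 0<|a 0<|a (-1)<|a 2<|a 0<|b)<|f (a (-1)<|a (-1)<|a 0<|a 1<|a 1<|a (-1)<|a 1<|b)<|d));
 (let d:=(f (a 1<|a 2<|a 0<|a (-1)<|a 0<|a 0<|a 1<|b)<|f (a (-1)<|a 1<|a 0<|a 0<|a 1<|a 0<|a (-1)<|b)<|f (a (-1)<|a 1<|a 0<|a 1<|a (-1)<|a 0<|a 1<|b)<|f (a 0<|a (-1)<|a 1<|a 1<|a (-1)<|a 1<|a (-1)<|b)<|f (a 0<|a 0<|a 2<|a (-1)<|a 0<|a 0<|a 1<|b)<|d);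
 (e (a (-1)<|a 0<|a 1<|a 0<|a (-1)<|a 2<|a 0<|b)<|e (a 0<|a 0<|a (-1)<|a 0<|a 1<|a 1<|a 0<|b)<|e (a 0<|a 1<|a 1<|a 0<|a 0<|a (-1)<|a 0<|b)<|e (a 1<|a 1<|a (-1)<|a 1<|a (-1)<|a 1<|a (-1)<|b)<|d))))) (by decide +kernel)
  · exact H2.Ppd.index_ge cs isCartan_cE7 hi (beta% delta% lq262b4d3c1c fun a b _ e f g =>
 (let d:=(let d:=(let d:=(f (a 0<|a 1<|a 1<|a (-1)<|a 0<|a 0<|a 1<|b)<|f (a 0<|a 0<|a 0<|a 0<|a 1<|a 0<|a (-1)<|b)<|f (a 0<|a 0<|a 0<|a 1<|a (-1)<|a 0<|a 1<|b)<|f (a 0<|a 0<|a 0<|a 0<|a 1<|a (-1)<|a 1<|b)<|f (a 0<|a 0<|a 0<|a 0<|a 0<|a 1<|a 0<|b)<|g);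
 (f (a 0<|a 0<|a 0<|a 1<|a 0<|a (-1)<|a 0<|b)<|f (a 0<|a 1<|a 1<|a (-1)<|a 0<|a 1<|a (-1)<|b)<|f (a 1<|a 1<|a (-1)<|a 0<|a 0<|a 0<|a 1<|b)<|f (a 0<|a (-1)<|a 1<|a 0<|a 0<|a 0<|a 1<|b)<|f (a 0<|a 0<|a 0<|a 1<|a (-1)<|a 1<|a (-1)<|b)<|d));
 (let d:=(f (a 0<|a 1<|a 1<|a (-1)<|a 1<|a (-1)<|a 0<|b)<|f (a 1<|a 1<|a (-1)<|a 0<|a 0<|a 1<|a (-1)<|b)<|f (a (-1)<|a 1<|a 0<|a 0<|a 0<|a 0<|a 1<|b)<|f (a 0<|a (-1)<|a 1<|a 0<|a 0<|a 1<|a (-1)<|b)<|f (a 1<|a (-1)<|a (-1)<|a 1<|a 0<|a 0<|a 1<|b)<|d);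
 (f (a 0<|a (-1)<|a 1<|a 0<|a 1<|a (-1)<|a 0<|b)<|f (a 1<|a (-1)<|a (-1)<|a 1<|a 0<|a 1<|a (-1)<|b)<|f (a 1<|a 0<|a 0<|a (-1)<|a 1<|a 0<|a 1<|b)<|f (a (-1)<|a (-1)<|a 0<|a 1<|a 0<|a 0<|a 1<|b)<|d)));
 (let d:=(let d:=(f (a (-1)<|a (-1)<|a 0<|a 1<|a 0<|a 1<|a (-1)<|b)<|f (a (-1)<|a 0<|a 1<|a (-1)<|a 1<|a 0<|a 1<|b)<|f (a 0<|a 1<|a 1<|a 0<|a (-1)<|a 0<|a 0<|b)<|f (a 1<|a 1<|a (-1)<|a 0<|a 1<|a (-1)<|a 0<|b)<|f (a (-1)<|a 1<|a 0<|a 0<|a 0<|a 1<|a (-1)<|b)<|d);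
 (f (a (-1)<|a 1<|a 0<|a 0<|a 1<|a (-1)<|a 0<|b)<|f (a 0<|a (-1)<|a 1<|a 1<|a (-1)<|a 0<|a 0<|b)<|f (a 1<|a (-1)<|a (-1)<|a 1<|a 1<|a (-1)<|a 0<|b)<|f (a 1<|a 0<|a 0<|a (-1)<|a 1<|a 1<|a (-1)<|b)<|f (a 1<|a 0<|a 0<|a 0<|a (-1)<|a 1<|a 1<|b)<|d));
 (let d:=(f (a (-1)<|a (-1)<|a 0<|a 1<|a 1<|a (-1)<|a 0<|b)<|f (a (-1)<|a 0<|a 1<|a (-1)<|a 1<|a 1<|a (-1)<|b)<|f (a (-1)<|a 0<|a 1<|a 0<|a (-1)<|a 1<|a 1<|b)<|f (a 0<|a 0<|a (-1)<|a 0<|a 1<|a 0<|a 1<|b)<|f (a 1<|a 1<|a (-1)<|a 1<|a (-1)<|a 0<|a 0<|b)<|d);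
 (e (a 1<|a (-1)<|a (-1)<|a 2<|a (-1)<|a 0<|a 0<|b)<|e (a 1<|a 0<|a 0<|a (-1)<|a 2<|a (-1)<|a 0<|b)<|e (a 1<|a 0<|a 0<|a 0<|a (-1)<|a 2<|a (-1)<|b)<|e (a 1<|a 0<|a 0<|a 0<|a 0<|a (-1)<|a 2<|b)<|d))))) (by decide +kernel)
  · exact H2.Ppd.index_ge cs isCartan_cE7 hi (beta% delta% lq262b4d3c1c fun a b _ e f g =>
 (let d:=(let d:=(let d:=(f (a 0<|a 1<|a 1<|a (-1)<|a 0<|a 0<|a 0<|b)<|f (a 0<|a 0<|a 0<|a 1<|a (-1)<|a 0<|a 0<|b)<|f (a 0<|a 0<|a 0<|a 0<|a 1<|a (-1)<|a 0<|b)<|f (a 0<|a 0<|a 0<|a 0<|a 0<|a 1<|a (-1)<|b)<|f (a 0<|a 0<|a 0<|a 0<|a 0<|a 0<|a 1<|b)<|g);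
 (f (a (-1)<|a (-1)<|a 0<|a 1<|a 0<|a 0<|a 0<|b)<|f (a (-1)<|a 1<|a 0<|a 0<|a 0<|a 0<|a 0<|b)<|f (a 1<|a (-1)<|a (-1)<|a 1<|a 0<|a 0<|a 0<|b)<|f (a 1<|a 1<|a (-1)<|a 0<|a 0<|a 0<|a 0<|b)<|f (a 0<|a (-1)<|a 1<|a 0<|a 0<|a 0<|a 0<|b)<|d));
 (let d:=(f (a (-1)<|a 0<|a 1<|a 0<|a (-1)<|a 1<|a 0<|b)<|f (a 0<|a 0<|a (-1)<|a 0<|a 1<|a 0<|a 0<|b)<|f (a 1<|a 0<|a 0<|a 0<|a (-1)<|a 1<|a 0<|b)<|f (a (-1)<|a 0<|a 1<|a (-1)<|a 1<|a 0<|a 0<|b)<|f (a 1<|a 0<|a 0<|a (-1)<|a 1<|a 0<|a 0<|b)<|d);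
 (f (a 1<|a 0<|a 0<|a 0<|a 0<|a 0<|a (-1)<|b)<|f (a (-1)<|a 0<|a 1<|a 0<|a 0<|a (-1)<|a 1<|b)<|f (a 0<|a 0<|a (-1)<|a 1<|a (-1)<|a 1<|a 0<|b)<|f (a 1<|a 0<|a 0<|a 0<|a 0<|a (-1)<|a 1<|b)<|d)));
 (let d:=(let d:=(f (a 0<|a 1<|a 0<|a (-1)<|a 1<|a (-1)<|a 1<|b)<|f (a 0<|a (-1)<|a 0<|a 0<|a 0<|a 1<|a 0<|b)<|f (a (-1)<|a 0<|a 1<|a 0<|a 0<|a 0<|a (-1)<|b)<|f (a 0<|a 0<|a (-1)<|a 1<|a 0<|a (-1)<|a 1<|b)<|f (a 0<|a 1<|a 0<|a (-1)<|a 0<|a 1<|a 0<|b)<|d);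
 (f (a 0<|a (-1)<|a 0<|a 1<|a (-1)<|a 0<|a 1<|b)<|f (a 0<|a 1<|a 0<|a (-1)<|a 1<|a 0<|a (-1)<|b)<|f (a 0<|a 1<|a 0<|a 0<|a (-1)<|a 0<|a 1<|b)<|f (a 0<|a (-1)<|a 0<|a 0<|a 1<|a (-1)<|a 1<|b)<|f (a 0<|a 0<|a (-1)<|a 1<|a 0<|a 0<|a (-1)<|b)<|d));
 (let d:=(f (a 0<|a 1<|a 0<|a 0<|a 0<|a (-1)<|a 0<|b)<|f (a 0<|a (-1)<|a 0<|a 1<|a (-1)<|a 1<|a (-1)<|b)<|f (a 0<|a 0<|a 1<|a (-1)<|a 0<|a 0<|a 1<|b)<|f (a 0<|a 1<|a 0<|a 0<|a (-1)<|a 1<|a (-1)<|b)<|f (a 0<|a (-1)<|a 0<|a 0<|a 1<|a 0<|a (-1)<|b)<|d);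
 (e (a (-1)<|a 0<|a 0<|a 0<|a 0<|a 0<|a 1<|b)<|e (a 0<|a (-1)<|a 0<|a 1<|a 0<|a (-1)<|a 0<|b)<|e (a 0<|a 0<|a 1<|a (-1)<|a 0<|a 1<|a (-1)<|b)<|e (a 1<|a 0<|a (-1)<|a 0<|a 0<|a 0<|a 1<|b)<|d))))) (by decide +kernel)

theorem index_E8 {W : Type*} [Group W] [Finite W] (cs : CoxeterSystem CoxeterMatrix.E₈ W) {J : Set (Fin 8)} {i : Fin 8}
    (hi : i ∉ J) : 62 ≤ (WJ cs J).index := by
  fin_cases i
  · exact H2.Ppd.index_ge cs isCartan_cE8 hi (beta% delta% lq262b4d3c1c fun a b c e _ g =>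
 (let d:=(let d:=(let d:=(let d:=(c (a 0<|a 1<|a 0<|a (-1)<|a 1<|a 0<|a 0<|a 0<|b)<|c (a 0<|a 0<|a (-1)<|a 1<|a 0<|a 0<|a 0<|a 0<|b)<|c (a (-1)<|a 0<|a 1<|a 0<|a 0<|a 0<|a 0<|a 0<|b)<|c (a 1<|a 0<|a 0<|a 0<|a 0<|a 0<|a 0<|a 0<|b)<|g);
 (c (a 0<|a 1<|a 0<|a 0<|a 0<|a (-1)<|a 1<|a 0<|b)<|c (a 0<|a (-1)<|a 0<|a 1<|a (-1)<|a 1<|a 0<|a 0<|b)<|c (a 0<|a 1<|a 0<|a 0<|a (-1)<|a 1<|a 0<|a 0<|b)<|c (a 0<|a (-1)<|a 0<|a 0<|a 1<|a 0<|a 0<|a 0<|b)<|d));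
 (let d:=(c (a 1<|a 0<|a (-1)<|a 0<|a 0<|a 1<|a 0<|a 0<|b)<|c (a 0<|a 1<|a 0<|a 0<|a 0<|a 0<|a (-1)<|a 1<|b)<|c (a 0<|a (-1)<|a 0<|a 1<|a 0<|a (-1)<|a 1<|a 0<|b)<|c (a 0<|a 0<|a 1<|a (-1)<|a 0<|a 1<|a 0<|a 0<|b)<|d);
 (c (a (-1)<|a 0<|a 0<|a 0<|a 0<|a 1<|a 0<|a 0<|b)<|c (a 0<|a 1<|a 0<|a 0<|a 0<|a 0<|a 0<|a (-1)<|b)<|c (a 0<|a (-1)<|a 0<|a 1<|a 0<|a 0<|a (-1)<|a 1<|b)<|c (a 0<|a 0<|a 1<|a (-1)<|a 1<|a (-1)<|a 1<|a 0<|b)<|d)));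
 (let d:=(let d:=(c (a 0<|a (-1)<|a 0<|a 1<|a 0<|a 0<|a 0<|a (-1)<|b)<|c (a 0<|a 0<|a 1<|a (-1)<|a 1<|a 0<|a (-1)<|a 1<|b)<|c (a 0<|a 0<|a 1<|a 0<|a (-1)<|a 0<|a 1<|a 0<|b)<|c (a 1<|a 0<|a (-1)<|a 0<|a 1<|a (-1)<|a 1<|a 0<|b)<|d);
 (c (a 0<|a 0<|a 1<|a 0<|a (-1)<|a 1<|a (-1)<|a 1<|b)<|c (a 1<|a 0<|a (-1)<|a 0<|a 1<|a 0<|a (-1)<|a 1<|b)<|c (a 1<|a 0<|a (-1)<|a 1<|a (-1)<|a 0<|a 1<|a 0<|b)<|c (a (-1)<|a 0<|a 0<|a 0<|a 1<|a (-1)<|a 1<|a 0<|b)<|d));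
 (c (a 0<|a 0<|a 1<|a 0<|a 0<|a (-1)<|a 0<|a 1<|b)<|c (a 1<|a 0<|a (-1)<|a 0<|a 1<|a 0<|a 0<|a (-1)<|b)<|c (a 1<|a 0<|a (-1)<|a 1<|a (-1)<|a 1<|a (-1)<|a 1<|b)<|c (a 1<|a 1<|a 0<|a (-1)<|a 0<|a 0<|a 1<|a 0<|b)<|c (a (-1)<|a 0<|a 0<|a 0<|a 1<|a 0<|a (-1)<|a 1<|b)<|c (a (-1)<|a 0<|a 0<|a 1<|a (-1)<|a 0<|a 1<|a 0<|b)<|c (a 0<|a 0<|a 1<|a (-1)<|a 1<|a 0<|a 0<|a (-1)<|b)<|d)));
 (let d:=(let d:=(let d:=(c (a (-1)<|a 0<|a 0<|a 0<|a 1<|a 0<|a 0<|a (-1)<|b)<|c (a (-1)<|a 0<|a 0<|a 1<|a (-1)<|a 1<|a (-1)<|a 1<|b)<|c (a (-1)<|a 1<|a 1<|a (-1)<|a 0<|a 0<|a 1<|a 0<|b)<|c (a 0<|a 0<|a 1<|a 0<|a (-1)<|a 1<|a 0<|a (-1)<|b)<|d);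
 (c (a 1<|a 0<|a (-1)<|a 1<|a (-1)<|a 1<|a 0<|a (-1)<|b)<|c (a 1<|a 0<|a (-1)<|a 1<|a 0<|a (-1)<|a 0<|a 1<|b)<|c (a 1<|a 1<|a 0<|a (-1)<|a 0<|a 1<|a (-1)<|a 1<|b)<|c (a 1<|a (-1)<|a 0<|a 0<|a 0<|a 0<|a 1<|a 0<|b)<|d));
 (let d:=(c (a (-1)<|a 1<|a 1<|a (-1)<|a 0<|a 1<|a (-1)<|a 1<|b)<|c (a 0<|a 1<|a (-1)<|a 0<|a 0<|a 0<|a 1<|a 0<|b)<|c (a (-1)<|a (-1)<|a 1<|a 0<|a 0<|a 0<|a 1<|a 0<|b)<|c (a 0<|a 0<|a 1<|a 0<|a 0<|a (-1)<|a 1<|a (-1)<|b)<|d);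
 (c (a 1<|a 1<|a 0<|a (-1)<|a 1<|a (-1)<|a 0<|a 1<|b)<|c (a 1<|a (-1)<|a 0<|a 0<|a 0<|a 1<|a (-1)<|a 1<|b)<|c (a (-1)<|a 0<|a 0<|a 1<|a (-1)<|a 1<|a 0<|a (-1)<|b)<|c (a (-1)<|a 0<|a 0<|a 1<|a 0<|a (-1)<|a 0<|a 1<|b)<|d)));
 (let d:=(let d:=(c (a 0<|a (-1)<|a (-1)<|a 1<|a 0<|a 0<|a 1<|a 0<|b)<|c (a 0<|a 0<|a 1<|a 0<|a 0<|a 0<|a (-1)<|a 0<|b)<|c (a 1<|a 0<|a (-1)<|a 1<|a 0<|a (-1)<|a 1<|a (-1)<|b)<|c (a 1<|a 1<|a 0<|a (-1)<|a 0<|a 1<|a 0<|a (-1)<|b)<|d);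
 (c (a (-1)<|a 1<|a 1<|a (-1)<|a 0<|a 1<|a 0<|a (-1)<|b)<|c (a (-1)<|a 1<|a 1<|a (-1)<|a 1<|a (-1)<|a 0<|a 1<|b)<|c (a 0<|a 1<|a (-1)<|a 0<|a 0<|a 1<|a (-1)<|a 1<|b)<|c (a (-1)<|a (-1)<|a 1<|a 0<|a 0<|a 1<|a (-1)<|a 1<|b)<|d));
 (e (a 0<|a 0<|a 0<|a (-1)<|a 1<|a 0<|a 1<|a 0<|b)<|e (a 1<|a 0<|a (-1)<|a 1<|a 0<|a 0<|a (-1)<|a 0<|b)<|e (a 1<|a 1<|a 0<|a (-1)<|a 1<|a (-1)<|a 1<|a (-1)<|b)<|e (a 1<|a 1<|a 0<|a 0<|a (-1)<|a 0<|a 0<|a 1<|b)<|e (a 1<|a (-1)<|a 0<|a 0<|a 0<|a 1<|a 0<|a (-1)<|b)<|e (a 1<|a (-1)<|a 0<|a 0<|a 1<|a (-1)<|a 0<|a 1<|b)<|e (a (-1)<|a 0<|a 0<|a 1<|a 0<|a (-1)<|a 1<|a (-1)<|b)<|d))))) (by decide +kernel)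
  · exact H2.Ppd.index_ge cs isCartan_cE8 hi (beta% delta% lq262b4d3c1c fun a b c e _ g =>
 (let d:=(let d:=(let d:=(let d:=(c (a 1<|a 0<|a (-1)<|a 0<|a 1<|a 0<|a 0<|a 0<|b)<|c (a 0<|a 0<|a 1<|a (-1)<|a 1<|a 0<|a 0<|a 0<|b)<|c (a 0<|a (-1)<|a 0<|a 1<|a 0<|a 0<|a 0<|a 0<|b)<|c (a 0<|a 1<|a 0<|a 0<|a 0<|a 0<|a 0<|a 0<|b)<|g);
 (c (a 0<|a 0<|a 1<|a 0<|a 0<|a (-1)<|a 1<|a 0<|b)<|c (a 1<|a 0<|a (-1)<|a 1<|a (-1)<|a 1<|a 0<|a 0<|b)<|c (a (-1)<|a 0<|a 0<|a 0<|a 1<|a 0<|a 0<|a 0<|b)<|c (a 0<|a 0<|a 1<|a 0<|a (-1)<|a 1<|a 0<|a 0<|b)<|d));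
 (let d:=(c (a 0<|a 0<|a 1<|a 0<|a 0<|a 0<|a (-1)<|a 1<|b)<|c (a 1<|a 0<|a (-1)<|a 1<|a 0<|a (-1)<|a 1<|a 0<|b)<|c (a 1<|a 1<|a 0<|a (-1)<|a 0<|a 1<|a 0<|a 0<|b)<|c (a (-1)<|a 0<|a 0<|a 1<|a (-1)<|a 1<|a 0<|a 0<|b)<|d);
 (c (a 1<|a 1<|a 0<|a (-1)<|a 1<|a (-1)<|a 1<|a 0<|b)<|c (a 1<|a (-1)<|a 0<|a 0<|a 0<|a 1<|a 0<|a 0<|b)<|c (a (-1)<|a 0<|a 0<|a 1<|a 0<|a (-1)<|a 1<|a 0<|b)<|c (a (-1)<|a 1<|a 1<|a (-1)<|a 0<|a 1<|a 0<|a 0<|b)<|d)));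
 (let d:=(let d:=(c (a 0<|a 1<|a (-1)<|a 0<|a 0<|a 1<|a 0<|a 0<|b)<|c (a (-1)<|a (-1)<|a 1<|a 0<|a 0<|a 1<|a 0<|a 0<|b)<|c (a 0<|a 0<|a 1<|a 0<|a 0<|a 0<|a 0<|a (-1)<|b)<|c (a 1<|a 0<|a (-1)<|a 1<|a 0<|a 0<|a (-1)<|a 1<|b)<|d);
 (c (a 1<|a 1<|a 0<|a 0<|a (-1)<|a 0<|a 1<|a 0<|b)<|c (a 1<|a (-1)<|a 0<|a 0<|a 1<|a (-1)<|a 1<|a 0<|b)<|c (a (-1)<|a 0<|a 0<|a 1<|a 0<|a 0<|a (-1)<|a 1<|b)<|c (a (-1)<|a 1<|a 1<|a (-1)<|a 1<|a (-1)<|a 1<|a 0<|b)<|d));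
 (c (a (-1)<|a 1<|a 1<|a (-1)<|a 1<|a 0<|a (-1)<|a 1<|b)<|c (a (-1)<|a 1<|a 1<|a 0<|a (-1)<|a 0<|a 1<|a 0<|b)<|c (a 0<|a 1<|a (-1)<|a 0<|a 1<|a (-1)<|a 1<|a 0<|b)<|c (a (-1)<|a (-1)<|a 1<|a 0<|a 1<|a (-1)<|a 1<|a 0<|b)<|c (a 0<|a (-1)<|a (-1)<|a 1<|a 0<|a 1<|a 0<|a 0<|b)<|c (a 1<|a 0<|a (-1)<|a 1<|a 0<|a 0<|a 0<|a (-1)<|b)<|c (a 1<|a 1<|a 0<|a (-1)<|a 1<|a 0<|a (-1)<|a 1<|b)<|d)));
 (let d:=(let d:=(let d:=(c (a 1<|a 1<|a 0<|a 0<|a (-1)<|a 1<|a (-1)<|a 1<|b)<|c (a 1<|a (-1)<|a 0<|a 0<|a 1<|a 0<|a (-1)<|a 1<|b)<|c (a 1<|a (-1)<|a 0<|a 1<|a (-1)<|a 0<|a 1<|a 0<|b)<|c (a (-1)<|a 0<|a 0<|a 1<|a 0<|a 0<|a 0<|a (-1)<|b)<|d);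
 (c (a (-1)<|a (-1)<|a 1<|a 1<|a (-1)<|a 0<|a 1<|a 0<|b)<|c (a 0<|a (-1)<|a (-1)<|a 1<|a 1<|a (-1)<|a 1<|a 0<|b)<|c (a 0<|a 0<|a 0<|a (-1)<|a 1<|a 1<|a 0<|a 0<|b)<|c (a 1<|a 1<|a 0<|a (-1)<|a 1<|a 0<|a 0<|a (-1)<|b)<|d));
 (let d:=(c (a (-1)<|a 1<|a 1<|a 0<|a (-1)<|a 1<|a (-1)<|a 1<|b)<|c (a 0<|a 1<|a (-1)<|a 0<|a 1<|a 0<|a (-1)<|a 1<|b)<|c (a 0<|a 1<|a (-1)<|a 1<|a (-1)<|a 0<|a 1<|a 0<|b)<|c (a (-1)<|a (-1)<|a 1<|a 0<|a 1<|a 0<|a (-1)<|a 1<|b)<|d);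
 (c (a 1<|a (-1)<|a 0<|a 0<|a 1<|a 0<|a 0<|a (-1)<|b)<|c (a 1<|a (-1)<|a 0<|a 1<|a (-1)<|a 1<|a (-1)<|a 1<|b)<|c (a 1<|a 0<|a 1<|a (-1)<|a 0<|a 0<|a 1<|a 0<|b)<|c (a (-1)<|a 1<|a 1<|a (-1)<|a 1<|a 0<|a 0<|a (-1)<|b)<|d)));
 (let d:=(let d:=(c (a 0<|a 0<|a 0<|a (-1)<|a 2<|a (-1)<|a 1<|a 0<|b)<|c (a 0<|a 0<|a 0<|a 0<|a (-1)<|a 2<|a 0<|a 0<|b)<|c (a 1<|a 1<|a 0<|a 0<|a (-1)<|a 1<|a 0<|a (-1)<|b)<|c (a 1<|a 1<|a 0<|a 0<|a 0<|a (-1)<|a 0<|a 1<|b)<|d);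
 (c (a (-1)<|a (-1)<|a 1<|a 1<|a (-1)<|a 1<|a (-1)<|a 1<|b)<|c (a (-1)<|a 0<|a 2<|a (-1)<|a 0<|a 0<|a 1<|a 0<|b)<|c (a 0<|a (-1)<|a (-1)<|a 1<|a 1<|a 0<|a (-1)<|a 1<|b)<|c (a 0<|a (-1)<|a (-1)<|a 2<|a (-1)<|a 0<|a 1<|a 0<|b)<|d));
 (e (a 2<|a 0<|a (-1)<|a 0<|a 0<|a 0<|a 1<|a 0<|b)<|e (a (-1)<|a 1<|a 1<|a 0<|a (-1)<|a 1<|a 0<|a (-1)<|b)<|e (a (-1)<|a 1<|a 1<|a 0<|a 0<|a (-1)<|a 0<|a 1<|b)<|e (a 0<|a 1<|a (-1)<|a 0<|a 1<|a 0<|a 0<|a (-1)<|b)<|e (a 0<|a 1<|a (-1)<|a 1<|a (-1)<|a 1<|a (-1)<|a 1<|b)<|e (a 0<|a 2<|a 0<|a (-1)<|a 0<|a 0<|a 1<|a 0<|b)<|e (a (-1)<|a (-1)<|a 1<|a 0<|a 1<|a 0<|a 0<|a (-1)<|b)<|d))))) (by decide +kernel)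
  · exact H2.Ppd.index_ge cs isCartan_cE8 hi (beta% delta% lq262b4d3c1c fun a b c e _ g =>
 (let d:=(let d:=(let d:=(let d:=(c (a 1<|a 1<|a 0<|a (-1)<|a 1<|a 0<|a 0<|a 0<|b)<|c (a (-1)<|a 0<|a 0<|a 1<|a 0<|a 0<|a 0<|a 0<|b)<|c (a 1<|a 0<|a (-1)<|a 1<|a 0<|a 0<|a 0<|a 0<|b)<|c (a 0<|a 0<|a 1<|a 0<|a 0<|a 0<|a 0<|a 0<|b)<|g);
 (c (a (-1)<|a (-1)<|a 1<|a 0<|a 1<|a 0<|a 0<|a 0<|b)<|c (a 1<|a 1<|a 0<|a 0<|a (-1)<|a 1<|a 0<|a 0<|b)<|c (a 1<|a (-1)<|a 0<|a 0<|a 1<|a 0<|a 0<|a 0<|b)<|c (a (-1)<|a 1<|a 1<|a (-1)<|a 1<|a 0<|a 0<|a 0<|b)<|d));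
 (let d:=(c (a 1<|a 1<|a 0<|a 0<|a 0<|a (-1)<|a 1<|a 0<|b)<|c (a 1<|a (-1)<|a 0<|a 1<|a (-1)<|a 1<|a 0<|a 0<|b)<|c (a (-1)<|a 1<|a 1<|a 0<|a (-1)<|a 1<|a 0<|a 0<|b)<|c (a 0<|a 1<|a (-1)<|a 0<|a 1<|a 0<|a 0<|a 0<|b)<|d);
 (c (a (-1)<|a 1<|a 1<|a 0<|a 0<|a (-1)<|a 1<|a 0<|b)<|c (a 0<|a 1<|a (-1)<|a 1<|a (-1)<|a 1<|a 0<|a 0<|b)<|c (a (-1)<|a (-1)<|a 1<|a 1<|a (-1)<|a 1<|a 0<|a 0<|b)<|c (a 0<|a (-1)<|a (-1)<|a 1<|a 1<|a 0<|a 0<|a 0<|b)<|d)));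
 (let d:=(let d:=(c (a 0<|a 0<|a 0<|a (-1)<|a 2<|a 0<|a 0<|a 0<|b)<|c (a 1<|a 1<|a 0<|a 0<|a 0<|a 0<|a (-1)<|a 1<|b)<|c (a 1<|a (-1)<|a 0<|a 1<|a 0<|a (-1)<|a 1<|a 0<|b)<|c (a 1<|a 0<|a 1<|a (-1)<|a 0<|a 1<|a 0<|a 0<|b)<|d);
 (c (a 0<|a 2<|a 0<|a (-1)<|a 0<|a 1<|a 0<|a 0<|b)<|c (a (-1)<|a (-1)<|a 1<|a 1<|a 0<|a (-1)<|a 1<|a 0<|b)<|c (a (-1)<|a 0<|a 2<|a (-1)<|a 0<|a 1<|a 0<|a 0<|b)<|c (a 0<|a (-1)<|a (-1)<|a 2<|a (-1)<|a 1<|a 0<|a 0<|b)<|d));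
 (c (a 0<|a 0<|a 0<|a 1<|a (-2)<|a 2<|a 0<|a 0<|b)<|c (a 1<|a 1<|a 0<|a 0<|a 0<|a 0<|a 0<|a (-1)<|b)<|c (a 1<|a (-1)<|a 0<|a 1<|a 0<|a 0<|a (-1)<|a 1<|b)<|c (a 1<|a 0<|a 1<|a (-1)<|a 1<|a (-1)<|a 1<|a 0<|b)<|c (a 2<|a 0<|a (-1)<|a 0<|a 0<|a 1<|a 0<|a 0<|b)<|c (a (-1)<|a 1<|a 1<|a 0<|a 0<|a 0<|a (-1)<|a 1<|b)<|c (a 0<|a 1<|a (-1)<|a 1<|a 0<|a (-1)<|a 1<|a 0<|b)<|d)));
 (let d:=(let d:=(let d:=(c (a (-1)<|a 0<|a 2<|a (-1)<|a 1<|a (-1)<|a 1<|a 0<|b)<|c (a 1<|a 0<|a (-2)<|a 1<|a 0<|a 1<|a 0<|a 0<|b)<|c (a 0<|a (-1)<|a (-1)<|a 2<|a 0<|a (-1)<|a 1<|a 0<|b)<|c (a 0<|a 1<|a 1<|a (-2)<|a 1<|a 1<|a 0<|a 0<|b)<|d);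
 (c (a 0<|a 1<|a (-1)<|a 1<|a 0<|a 0<|a (-1)<|a 1<|b)<|c (a 0<|a 2<|a 0<|a (-1)<|a 1<|a (-1)<|a 1<|a 0<|b)<|c (a 0<|a (-2)<|a 0<|a 1<|a 0<|a 1<|a 0<|a 0<|b)<|c (a (-1)<|a (-1)<|a 1<|a 1<|a 0<|a 0<|a (-1)<|a 1<|b)<|d));
 (let d:=(c (a 1<|a 0<|a 1<|a 0<|a (-1)<|a 0<|a 1<|a 0<|b)<|c (a 2<|a 0<|a (-1)<|a 0<|a 1<|a (-1)<|a 1<|a 0<|b)<|c (a (-2)<|a 0<|a 1<|a 0<|a 0<|a 1<|a 0<|a 0<|b)<|c (a (-1)<|a 1<|a 1<|a 0<|a 0<|a 0<|a 0<|a (-1)<|b)<|d);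
 (c (a 0<|a 0<|a 0<|a 1<|a 0<|a (-2)<|a 2<|a 0<|b)<|c (a 0<|a 1<|a 1<|a (-1)<|a (-1)<|a 2<|a 0<|a 0<|b)<|c (a 1<|a (-1)<|a 0<|a 1<|a 0<|a 0<|a 0<|a (-1)<|b)<|c (a 1<|a 0<|a 1<|a (-1)<|a 1<|a 0<|a (-1)<|a 1<|b)<|d)));
 (let d:=(let d:=(c (a 0<|a (-1)<|a (-1)<|a 2<|a 0<|a 0<|a (-1)<|a 1<|b)<|c (a 0<|a 1<|a 1<|a (-2)<|a 2<|a (-1)<|a 1<|a 0<|b)<|c (a 1<|a 1<|a (-1)<|a (-1)<|a 1<|a 1<|a 0<|a 0<|b)<|c (a 0<|a (-1)<|a 1<|a (-1)<|a 1<|a 1<|a 0<|a 0<|b)<|d);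
 (c (a (-1)<|a 0<|a 2<|a (-1)<|a 1<|a 0<|a (-1)<|a 1<|b)<|c (a (-1)<|a 0<|a 2<|a 0<|a (-1)<|a 0<|a 1<|a 0<|b)<|c (a 1<|a 0<|a (-2)<|a 1<|a 1<|a (-1)<|a 1<|a 0<|b)<|c (a (-1)<|a 0<|a (-1)<|a 1<|a 0<|a 1<|a 0<|a 0<|b)<|d));
 (e (a 2<|a 0<|a (-1)<|a 1<|a (-1)<|a 0<|a 1<|a 0<|b)<|e (a (-2)<|a 0<|a 1<|a 0<|a 1<|a (-1)<|a 1<|a 0<|b)<|e (a 0<|a 1<|a (-1)<|a 1<|a 0<|a 0<|a 0<|a (-1)<|b)<|e (a 0<|a 2<|a 0<|a (-1)<|a 1<|a 0<|a (-1)<|a 1<|b)<|e (a 0<|a 2<|a 0<|a 0<|a (-1)<|a 0<|a 1<|a 0<|b)<|e (a 0<|a (-2)<|a 0<|a 1<|a 1<|a (-1)<|a 1<|a 0<|b)<|e (a (-1)<|a (-1)<|a 1<|a 1<|a 0<|a 0<|a 0<|a (-1)<|b)<|d))))) (by decide +kernel)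
  · exact H2.Ppd.index_ge cs isCartan_cE8 hi (beta% delta% lq262b4d3c1c fun a b c e _ g =>
 (let d:=(let d:=(let d:=(let d:=(c (a 1<|a 1<|a (-1)<|a 0<|a 1<|a 0<|a 0<|a 0<|b)<|c (a 0<|a (-1)<|a 1<|a 0<|a 1<|a 0<|a 0<|a 0<|b)<|c (a 0<|a 1<|a 1<|a (-1)<|a 1<|a 0<|a 0<|a 0<|b)<|c (a 0<|a 0<|a 0<|a 1<|a 0<|a 0<|a 0<|a 0<|b)<|g);
 (c (a (-1)<|a 1<|a 0<|a 0<|a 1<|a 0<|a 0<|a 0<|b)<|c (a 0<|a (-1)<|a 1<|a 1<|a (-1)<|a 1<|a 0<|a 0<|b)<|c (a 1<|a (-1)<|a (-1)<|a 1<|a 1<|a 0<|a 0<|a 0<|b)<|c (a 0<|a 1<|a 1<|a 0<|a (-1)<|a 1<|a 0<|a 0<|b)<|d));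
 (let d:=(c (a 1<|a 0<|a 0<|a (-1)<|a 2<|a 0<|a 0<|a 0<|b)<|c (a (-1)<|a (-1)<|a 0<|a 1<|a 1<|a 0<|a 0<|a 0<|b)<|c (a 0<|a 1<|a 1<|a 0<|a 0<|a (-1)<|a 1<|a 0<|b)<|c (a 1<|a 1<|a (-1)<|a 1<|a (-1)<|a 1<|a 0<|a 0<|b)<|d);
 (c (a (-1)<|a 1<|a 0<|a 1<|a (-1)<|a 1<|a 0<|a 0<|b)<|c (a 0<|a (-1)<|a 1<|a 1<|a 0<|a (-1)<|a 1<|a 0<|b)<|c (a 0<|a 0<|a 2<|a (-1)<|a 0<|a 1<|a 0<|a 0<|b)<|c (a 1<|a (-1)<|a (-1)<|a 2<|a (-1)<|a 1<|a 0<|a 0<|b)<|d)));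
 (let d:=(let d:=(c (a (-1)<|a 0<|a 1<|a (-1)<|a 2<|a 0<|a 0<|a 0<|b)<|c (a 0<|a 1<|a 1<|a 0<|a 0<|a 0<|a (-1)<|a 1<|b)<|c (a 1<|a 1<|a (-1)<|a 1<|a 0<|a (-1)<|a 1<|a 0<|b)<|c (a 1<|a 2<|a 0<|a (-1)<|a 0<|a 1<|a 0<|a 0<|b)<|d);
 (c (a 1<|a (-1)<|a (-1)<|a 2<|a 0<|a (-1)<|a 1<|a 0<|b)<|c (a 1<|a 1<|a 1<|a (-2)<|a 1<|a 1<|a 0<|a 0<|b)<|c (a 1<|a 0<|a 0<|a 1<|a (-2)<|a 2<|a 0<|a 0<|b)<|c (a (-1)<|a (-1)<|a 0<|a 2<|a (-1)<|a 1<|a 0<|a 0<|b)<|d));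
 (c (a 1<|a 2<|a 0<|a (-1)<|a 1<|a (-1)<|a 1<|a 0<|b)<|c (a 1<|a (-2)<|a 0<|a 1<|a 0<|a 1<|a 0<|a 0<|b)<|c (a (-1)<|a 1<|a 0<|a 1<|a 0<|a (-1)<|a 1<|a 0<|b)<|c (a (-1)<|a 2<|a 1<|a (-1)<|a 0<|a 1<|a 0<|a 0<|b)<|c (a 0<|a (-1)<|a 1<|a 1<|a 0<|a 0<|a (-1)<|a 1<|b)<|c (a 0<|a 0<|a 2<|a (-1)<|a 1<|a (-1)<|a 1<|a 0<|b)<|c (a 2<|a 0<|a (-2)<|a 1<|a 0<|a 1<|a 0<|a 0<|b)<|d)));
 (let d:=(let d:=(let d:=(c (a (-1)<|a 0<|a 1<|a 1<|a (-2)<|a 2<|a 0<|a 0<|b)<|c (a 0<|a 0<|a (-1)<|a 0<|a 2<|a 0<|a 0<|a 0<|b)<|c (a 0<|a 1<|a 1<|a 0<|a 0<|a 0<|a 0<|a (-1)<|b)<|c (a 1<|a 1<|a (-1)<|a 1<|a 0<|a 0<|a (-1)<|a 1<|b)<|d);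
 (c (a 1<|a 0<|a 0<|a 1<|a 0<|a (-2)<|a 2<|a 0<|b)<|c (a 1<|a 1<|a 1<|a (-1)<|a (-1)<|a 2<|a 0<|a 0<|b)<|c (a (-1)<|a (-1)<|a 0<|a 2<|a 0<|a (-1)<|a 1<|a 0<|b)<|c (a (-1)<|a 1<|a 2<|a (-2)<|a 1<|a 1<|a 0<|a 0<|b)<|d));
 (let d:=(c (a 1<|a (-1)<|a (-1)<|a 2<|a 0<|a 0<|a (-1)<|a 1<|b)<|c (a 1<|a 1<|a 1<|a (-2)<|a 2<|a (-1)<|a 1<|a 0<|b)<|c (a 2<|a 1<|a (-1)<|a (-1)<|a 1<|a 1<|a 0<|a 0<|b)<|c (a 1<|a (-1)<|a 1<|a (-1)<|a 1<|a 1<|a 0<|a 0<|b)<|d);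
 (c (a 0<|a 0<|a 2<|a (-1)<|a 1<|a 0<|a (-1)<|a 1<|b)<|c (a 0<|a 0<|a 2<|a 0<|a (-1)<|a 0<|a 1<|a 0<|b)<|c (a 2<|a 0<|a (-2)<|a 1<|a 1<|a (-1)<|a 1<|a 0<|b)<|c (a (-2)<|a 0<|a 0<|a 1<|a 0<|a 1<|a 0<|a 0<|b)<|d)));
 (let d:=(let d:=(c (a (-1)<|a 2<|a 1<|a (-1)<|a 1<|a (-1)<|a 1<|a 0<|b)<|c (a 0<|a 2<|a (-1)<|a 0<|a 0<|a 1<|a 0<|a 0<|b)<|c (a (-1)<|a (-2)<|a 1<|a 1<|a 0<|a 1<|a 0<|a 0<|b)<|c (a 0<|a (-1)<|a 1<|a 1<|a 0<|a 0<|a 0<|a (-1)<|b)<|d);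
 (c (a 1<|a 2<|a 0<|a (-1)<|a 1<|a 0<|a (-1)<|a 1<|b)<|c (a 1<|a 2<|a 0<|a 0<|a (-1)<|a 0<|a 1<|a 0<|b)<|c (a 1<|a (-2)<|a 0<|a 1<|a 1<|a (-1)<|a 1<|a 0<|b)<|c (a (-1)<|a 1<|a 0<|a 1<|a 0<|a 0<|a (-1)<|a 1<|b)<|d));
 (e (a (-1)<|a 1<|a 2<|a (-2)<|a 2<|a (-1)<|a 1<|a 0<|b)<|e (a 1<|a 1<|a (-2)<|a 0<|a 1<|a 1<|a 0<|a 0<|b)<|e (a (-1)<|a (-1)<|a 2<|a (-1)<|a 1<|a 1<|a 0<|a 0<|b)<|e (a (-1)<|a 0<|a 1<|a 1<|a 0<|a (-2)<|a 2<|a 0<|b)<|e (a (-1)<|a 1<|a 2<|a (-1)<|a (-1)<|a 2<|a 0<|a 0<|b)<|e (a 0<|a 0<|a (-1)<|a 2<|a (-2)<|a 2<|a 0<|a 0<|b)<|e (a 1<|a 1<|a (-1)<|a 1<|a 0<|a 0<|a 0<|a (-1)<|b)<|d))))) (by decide +kernel)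
  · exact H2.Ppd.index_ge cs isCartan_cE8 hi (beta% delta% lq262b4d3c1c fun a b c e _ g =>
 (let d:=(let d:=(let d:=(let d:=(c (a 0<|a 0<|a 0<|a 1<|a 0<|a (-1)<|a 1<|a 0<|b)<|c (a 0<|a 1<|a 1<|a (-1)<|a 0<|a 1<|a 0<|a 0<|b)<|c (a 0<|a 0<|a 0<|a 1<|a (-1)<|a 1<|a 0<|a 0<|b)<|c (a 0<|a 0<|a 0<|a 0<|a 1<|a 0<|a 0<|a 0<|b)<|g);
 (c (a 0<|a 0<|a 0<|a 1<|a 0<|a 0<|a (-1)<|a 1<|b)<|c (a 0<|a 1<|a 1<|a (-1)<|a 1<|a (-1)<|a 1<|a 0<|b)<|c (a 1<|a 1<|a (-1)<|a 0<|a 0<|a 1<|a 0<|a 0<|b)<|c (a 0<|a (-1)<|a 1<|a 0<|a 0<|a 1<|a 0<|a 0<|b)<|d));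
 (let d:=(c (a 1<|a 1<|a (-1)<|a 0<|a 1<|a (-1)<|a 1<|a 0<|b)<|c (a (-1)<|a 1<|a 0<|a 0<|a 0<|a 1<|a 0<|a 0<|b)<|c (a 0<|a (-1)<|a 1<|a 0<|a 1<|a (-1)<|a 1<|a 0<|b)<|c (a 1<|a (-1)<|a (-1)<|a 1<|a 0<|a 1<|a 0<|a 0<|b)<|d);
 (c (a (-1)<|a (-1)<|a 0<|a 1<|a 0<|a 1<|a 0<|a 0<|b)<|c (a 0<|a 0<|a 0<|a 1<|a 0<|a 0<|a 0<|a (-1)<|b)<|c (a 0<|a 1<|a 1<|a (-1)<|a 1<|a 0<|a (-1)<|a 1<|b)<|c (a 0<|a 1<|a 1<|a 0<|a (-1)<|a 0<|a 1<|a 0<|b)<|d)));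
 (let d:=(let d:=(c (a 0<|a (-1)<|a 1<|a 0<|a 1<|a 0<|a (-1)<|a 1<|b)<|c (a 0<|a (-1)<|a 1<|a 1<|a (-1)<|a 0<|a 1<|a 0<|b)<|c (a 1<|a (-1)<|a (-1)<|a 1<|a 1<|a (-1)<|a 1<|a 0<|b)<|c (a 1<|a 0<|a 0<|a (-1)<|a 1<|a 1<|a 0<|a 0<|b)<|d);
 (c (a 0<|a 1<|a 1<|a 0<|a (-1)<|a 1<|a (-1)<|a 1<|b)<|c (a 1<|a 1<|a (-1)<|a 0<|a 1<|a 0<|a (-1)<|a 1<|b)<|c (a 1<|a 1<|a (-1)<|a 1<|a (-1)<|a 0<|a 1<|a 0<|b)<|c (a (-1)<|a 1<|a 0<|a 0<|a 1<|a (-1)<|a 1<|a 0<|b)<|d));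
 (c (a 1<|a (-1)<|a (-1)<|a 1<|a 1<|a 0<|a (-1)<|a 1<|b)<|c (a 1<|a (-1)<|a (-1)<|a 2<|a (-1)<|a 0<|a 1<|a 0<|b)<|c (a 1<|a 0<|a 0<|a (-1)<|a 2<|a (-1)<|a 1<|a 0<|b)<|c (a 1<|a 0<|a 0<|a 0<|a (-1)<|a 2<|a 0<|a 0<|b)<|c (a (-1)<|a (-1)<|a 0<|a 1<|a 1<|a (-1)<|a 1<|a 0<|b)<|c (a (-1)<|a 0<|a 1<|a (-1)<|a 1<|a 1<|a 0<|a 0<|b)<|c (a 0<|a 1<|a 1<|a (-1)<|a 1<|a 0<|a 0<|a (-1)<|b)<|d)));
 (let d:=(let d:=(let d:=(c (a (-1)<|a 1<|a 0<|a 1<|a (-1)<|a 0<|a 1<|a 0<|b)<|c (a 0<|a (-1)<|a 1<|a 0<|a 1<|a 0<|a 0<|a (-1)<|b)<|c (a 0<|a (-1)<|a 1<|a 1<|a (-1)<|a 1<|a (-1)<|a 1<|b)<|c (a 0<|a 0<|a 2<|a (-1)<|a 0<|a 0<|a 1<|a 0<|b)<|d);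
 (c (a 1<|a 1<|a (-1)<|a 0<|a 1<|a 0<|a 0<|a (-1)<|b)<|c (a 1<|a 1<|a (-1)<|a 1<|a (-1)<|a 1<|a (-1)<|a 1<|b)<|c (a 1<|a 2<|a 0<|a (-1)<|a 0<|a 0<|a 1<|a 0<|b)<|c (a (-1)<|a 1<|a 0<|a 0<|a 1<|a 0<|a (-1)<|a 1<|b)<|d));
 (let d:=(c (a (-1)<|a 0<|a 1<|a 0<|a (-1)<|a 2<|a 0<|a 0<|b)<|c (a 0<|a 0<|a (-1)<|a 0<|a 1<|a 1<|a 0<|a 0<|b)<|c (a 0<|a 1<|a 1<|a 0<|a (-1)<|a 1<|a 0<|a (-1)<|b)<|c (a 0<|a 1<|a 1<|a 0<|a 0<|a (-1)<|a 0<|a 1<|b)<|d);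
 (c (a 1<|a 0<|a 0<|a 0<|a 1<|a (-2)<|a 2<|a 0<|b)<|c (a (-1)<|a (-1)<|a 0<|a 1<|a 1<|a 0<|a (-1)<|a 1<|b)<|c (a (-1)<|a (-1)<|a 0<|a 2<|a (-1)<|a 0<|a 1<|a 0<|b)<|c (a (-1)<|a 0<|a 1<|a (-1)<|a 2<|a (-1)<|a 1<|a 0<|b)<|d)));
 (let d:=(let d:=(c (a 1<|a (-1)<|a (-1)<|a 2<|a (-1)<|a 1<|a (-1)<|a 1<|b)<|c (a 1<|a 1<|a 1<|a (-2)<|a 1<|a 0<|a 1<|a 0<|b)<|c (a 1<|a 0<|a 0<|a (-1)<|a 2<|a 0<|a (-1)<|a 1<|b)<|c (a 1<|a 0<|a 0<|a 1<|a (-2)<|a 1<|a 1<|a 0<|b)<|d);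
 (c (a 0<|a (-1)<|a 1<|a 1<|a 0<|a (-1)<|a 0<|a 1<|b)<|c (a 0<|a 0<|a 2<|a (-1)<|a 0<|a 1<|a (-1)<|a 1<|b)<|c (a 2<|a 0<|a (-2)<|a 1<|a 0<|a 0<|a 1<|a 0<|b)<|c (a 1<|a (-1)<|a (-1)<|a 1<|a 1<|a 0<|a 0<|a (-1)<|b)<|d));
 (e (a 1<|a 1<|a (-1)<|a 1<|a 0<|a (-1)<|a 0<|a 1<|b)<|e (a 1<|a 2<|a 0<|a (-1)<|a 0<|a 1<|a (-1)<|a 1<|b)<|e (a 1<|a (-2)<|a 0<|a 1<|a 0<|a 0<|a 1<|a 0<|b)<|e (a (-1)<|a 1<|a 0<|a 0<|a 1<|a 0<|a 0<|a (-1)<|b)<|e (a (-1)<|a 1<|a 0<|a 1<|a (-1)<|a 1<|a (-1)<|a 1<|b)<|e (a (-1)<|a 2<|a 1<|a (-1)<|a 0<|a 0<|a 1<|a 0<|b)<|e (a 0<|a (-1)<|a 1<|a 1<|a (-1)<|a 1<|a 0<|a (-1)<|b)<|d))))) (by decide +kernel)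
  · exact H2.Ppd.index_ge cs isCartan_cE8 hi (beta% delta% lq262b4d3c1c fun a b c e _ g =>
 (let d:=(let d:=(let d:=(let d:=(c (a 0<|a 0<|a 0<|a 0<|a 1<|a 0<|a (-1)<|a 1<|b)<|c (a 0<|a 0<|a 0<|a 1<|a (-1)<|a 0<|a 1<|a 0<|b)<|c (a 0<|a 0<|a 0<|a 0<|a 1<|a (-1)<|a 1<|a 0<|b)<|c (a 0<|a 0<|a 0<|a 0<|a 0<|a 1<|a 0<|a 0<|b)<|g);
 (c (a 0<|a (-1)<|a 1<|a 0<|a 0<|a 0<|a 1<|a 0<|b)<|c (a 0<|a 0<|a 0<|a 0<|a 1<|a 0<|a 0<|a (-1)<|b)<|c (a 0<|a 0<|a 0<|a 1<|a (-1)<|a 1<|a (-1)<|a 1<|b)<|c (a 0<|a 1<|a 1<|a (-1)<|a 0<|a 0<|a 1<|a 0<|b)<|d));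
 (let d:=(c (a 0<|a 0<|a 0<|a 1<|a (-1)<|a 1<|a 0<|a (-1)<|b)<|c (a 0<|a 0<|a 0<|a 1<|a 0<|a (-1)<|a 0<|a 1<|b)<|c (a 0<|a 1<|a 1<|a (-1)<|a 0<|a 1<|a (-1)<|a 1<|b)<|c (a 1<|a 1<|a (-1)<|a 0<|a 0<|a 0<|a 1<|a 0<|b)<|d);
 (c (a 1<|a 1<|a (-1)<|a 0<|a 0<|a 1<|a (-1)<|a 1<|b)<|c (a (-1)<|a 1<|a 0<|a 0<|a 0<|a 0<|a 1<|a 0<|b)<|c (a 0<|a (-1)<|a 1<|a 0<|a 0<|a 1<|a (-1)<|a 1<|b)<|c (a 1<|a (-1)<|a (-1)<|a 1<|a 0<|a 0<|a 1<|a 0<|b)<|d)));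
 (let d:=(let d:=(c (a (-1)<|a (-1)<|a 0<|a 1<|a 0<|a 0<|a 1<|a 0<|b)<|c (a 0<|a 0<|a 0<|a 1<|a 0<|a (-1)<|a 1<|a (-1)<|b)<|c (a 0<|a 1<|a 1<|a (-1)<|a 0<|a 1<|a 0<|a (-1)<|b)<|c (a 0<|a 1<|a 1<|a (-1)<|a 1<|a (-1)<|a 0<|a 1<|b)<|d);
 (c (a 0<|a (-1)<|a 1<|a 0<|a 0<|a 1<|a 0<|a (-1)<|b)<|c (a 0<|a (-1)<|a 1<|a 0<|a 1<|a (-1)<|a 0<|a 1<|b)<|c (a 1<|a (-1)<|a (-1)<|a 1<|a 0<|a 1<|a (-1)<|a 1<|b)<|c (a 1<|a 0<|a 0<|a (-1)<|a 1<|a 0<|a 1<|a 0<|b)<|d));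
 (c (a (-1)<|a 0<|a 1<|a (-1)<|a 1<|a 0<|a 1<|a 0<|b)<|c (a 0<|a 0<|a 0<|a 1<|a 0<|a 0<|a (-1)<|a 0<|b)<|c (a 0<|a 1<|a 1<|a (-1)<|a 1<|a (-1)<|a 1<|a (-1)<|b)<|c (a 0<|a 1<|a 1<|a 0<|a (-1)<|a 0<|a 0<|a 1<|b)<|c (a 1<|a 1<|a (-1)<|a 0<|a 0<|a 1<|a 0<|a (-1)<|b)<|c (a 1<|a 1<|a (-1)<|a 0<|a 1<|a (-1)<|a 0<|a 1<|b)<|c (a (-1)<|a 1<|a 0<|a 0<|a 0<|a 1<|a (-1)<|a 1<|b)<|d)));
 (let d:=(let d:=(let d:=(c (a 1<|a (-1)<|a (-1)<|a 1<|a 1<|a (-1)<|a 0<|a 1<|b)<|c (a 1<|a 0<|a 0<|a (-1)<|a 1<|a 1<|a (-1)<|a 1<|b)<|c (a 1<|a 0<|a 0<|a 0<|a (-1)<|a 1<|a 1<|a 0<|b)<|c (a (-1)<|a (-1)<|a 0<|a 1<|a 0<|a 1<|a (-1)<|a 1<|b)<|d);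
 (c (a (-1)<|a 1<|a 0<|a 0<|a 1<|a (-1)<|a 0<|a 1<|b)<|c (a 0<|a (-1)<|a 1<|a 0<|a 1<|a (-1)<|a 1<|a (-1)<|b)<|c (a 0<|a (-1)<|a 1<|a 1<|a (-1)<|a 0<|a 0<|a 1<|b)<|c (a 1<|a (-1)<|a (-1)<|a 1<|a 0<|a 1<|a 0<|a (-1)<|b)<|d));
 (let d:=(c (a 0<|a 1<|a 1<|a 0<|a (-1)<|a 0<|a 1<|a (-1)<|b)<|c (a 1<|a 1<|a (-1)<|a 0<|a 1<|a (-1)<|a 1<|a (-1)<|b)<|c (a 1<|a 1<|a (-1)<|a 1<|a (-1)<|a 0<|a 0<|a 1<|b)<|c (a (-1)<|a 1<|a 0<|a 0<|a 0<|a 1<|a 0<|a (-1)<|b)<|d);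
 (c (a (-1)<|a 0<|a 1<|a (-1)<|a 1<|a 1<|a (-1)<|a 1<|b)<|c (a (-1)<|a 0<|a 1<|a 0<|a (-1)<|a 1<|a 1<|a 0<|b)<|c (a 0<|a 0<|a (-1)<|a 0<|a 1<|a 0<|a 1<|a 0<|b)<|c (a 0<|a 1<|a 1<|a (-1)<|a 1<|a 0<|a (-1)<|a 0<|b)<|d)));
 (let d:=(let d:=(c (a 1<|a 0<|a 0<|a 0<|a (-1)<|a 2<|a (-1)<|a 1<|b)<|c (a 1<|a 0<|a 0<|a 0<|a 0<|a (-1)<|a 2<|a 0<|b)<|c (a (-1)<|a (-1)<|a 0<|a 1<|a 0<|a 1<|a 0<|a (-1)<|b)<|c (a (-1)<|a (-1)<|a 0<|a 1<|a 1<|a (-1)<|a 0<|a 1<|b)<|d);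
 (c (a 1<|a (-1)<|a (-1)<|a 1<|a 1<|a (-1)<|a 1<|a (-1)<|b)<|c (a 1<|a (-1)<|a (-1)<|a 2<|a (-1)<|a 0<|a 0<|a 1<|b)<|c (a 1<|a 0<|a 0<|a (-1)<|a 1<|a 1<|a 0<|a (-1)<|b)<|c (a 1<|a 0<|a 0<|a (-1)<|a 2<|a (-1)<|a 0<|a 1<|b)<|d));
 (e (a 1<|a 1<|a (-1)<|a 1<|a (-1)<|a 0<|a 1<|a (-1)<|b)<|e (a 1<|a 2<|a 0<|a (-1)<|a 0<|a 0<|a 0<|a 1<|b)<|e (a (-1)<|a 1<|a 0<|a 0<|a 1<|a (-1)<|a 1<|a (-1)<|b)<|e (a (-1)<|a 1<|a 0<|a 1<|a (-1)<|a 0<|a 0<|a 1<|b)<|e (a 0<|a (-1)<|a 1<|a 0<|a 1<|a 0<|a (-1)<|a 0<|b)<|e (a 0<|a (-1)<|a 1<|a 1<|a (-1)<|a 0<|a 1<|a (-1)<|b)<|e (a 0<|a 0<|a 2<|a (-1)<|a 0<|a 0<|a 0<|a 1<|b)<|d))))) (by decide +kernel)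
  · exact H2.Ppd.index_ge cs isCartan_cE8 hi (beta% delta% lq262b4d3c1c fun a b c e _ g =>
 (let d:=(let d:=(let d:=(let d:=(c (a 0<|a 0<|a 0<|a 0<|a 0<|a 1<|a 0<|a (-1)<|b)<|c (a 0<|a 0<|a 0<|a 0<|a 1<|a (-1)<|a 0<|a 1<|b)<|c (a 0<|a 0<|a 0<|a 0<|a 0<|a 1<|a (-1)<|a 1<|b)<|c (a 0<|a 0<|a 0<|a 0<|a 0<|a 0<|a 1<|a 0<|b)<|g);
 (c (a 0<|a 0<|a 0<|a 1<|a (-1)<|a 0<|a 1<|a (-1)<|b)<|c (a 0<|a 1<|a 1<|a (-1)<|a 0<|a 0<|a 0<|a 1<|b)<|c (a 0<|a 0<|a 0<|a 0<|a 1<|a (-1)<|a 1<|a (-1)<|b)<|c (a 0<|a 0<|a 0<|a 1<|a (-1)<|a 0<|a 0<|a 1<|b)<|d));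
 (let d:=(c (a 0<|a 1<|a 1<|a (-1)<|a 0<|a 0<|a 1<|a (-1)<|b)<|c (a 1<|a 1<|a (-1)<|a 0<|a 0<|a 0<|a 0<|a 1<|b)<|c (a 0<|a (-1)<|a 1<|a 0<|a 0<|a 0<|a 0<|a 1<|b)<|c (a 0<|a 0<|a 0<|a 0<|a 1<|a 0<|a (-1)<|a 0<|b)<|d);
 (c (a (-1)<|a 1<|a 0<|a 0<|a 0<|a 0<|a 0<|a 1<|b)<|c (a 0<|a (-1)<|a 1<|a 0<|a 0<|a 0<|a 1<|a (-1)<|b)<|c (a 1<|a (-1)<|a (-1)<|a 1<|a 0<|a 0<|a 0<|a 1<|b)<|c (a 0<|a 0<|a 0<|a 1<|a (-1)<|a 1<|a (-1)<|a 0<|b)<|d)));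
 (let d:=(let d:=(c (a (-1)<|a (-1)<|a 0<|a 1<|a 0<|a 0<|a 0<|a 1<|b)<|c (a 0<|a 0<|a 0<|a 1<|a 0<|a (-1)<|a 0<|a 0<|b)<|c (a 0<|a 1<|a 1<|a (-1)<|a 0<|a 1<|a (-1)<|a 0<|b)<|c (a 1<|a 1<|a (-1)<|a 0<|a 0<|a 0<|a 1<|a (-1)<|b)<|d);
 (c (a (-1)<|a 1<|a 0<|a 0<|a 0<|a 0<|a 1<|a (-1)<|b)<|c (a 0<|a (-1)<|a 1<|a 0<|a 0<|a 1<|a (-1)<|a 0<|b)<|c (a 1<|a (-1)<|a (-1)<|a 1<|a 0<|a 0<|a 1<|a (-1)<|b)<|c (a 1<|a 0<|a 0<|a (-1)<|a 1<|a 0<|a 0<|a 1<|b)<|d));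
 (c (a 1<|a (-1)<|a (-1)<|a 1<|a 0<|a 1<|a (-1)<|a 0<|b)<|c (a 1<|a 0<|a 0<|a (-1)<|a 1<|a 0<|a 1<|a (-1)<|b)<|c (a 1<|a 0<|a 0<|a 0<|a (-1)<|a 1<|a 0<|a 1<|b)<|c (a (-1)<|a (-1)<|a 0<|a 1<|a 0<|a 0<|a 1<|a (-1)<|b)<|c (a (-1)<|a 0<|a 1<|a (-1)<|a 1<|a 0<|a 0<|a 1<|b)<|c (a 0<|a 1<|a 1<|a (-1)<|a 1<|a (-1)<|a 0<|a 0<|b)<|c (a 1<|a 1<|a (-1)<|a 0<|a 0<|a 1<|a (-1)<|a 0<|b)<|d)));
 (let d:=(let d:=(let d:=(c (a 0<|a 1<|a 1<|a 0<|a (-1)<|a 0<|a 0<|a 0<|b)<|c (a 1<|a 1<|a (-1)<|a 0<|a 1<|a (-1)<|a 0<|a 0<|b)<|c (a (-1)<|a 1<|a 0<|a 0<|a 0<|a 1<|a (-1)<|a 0<|b)<|c (a 0<|a (-1)<|a 1<|a 0<|a 1<|a (-1)<|a 0<|a 0<|b)<|d);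
 (c (a (-1)<|a (-1)<|a 0<|a 1<|a 0<|a 1<|a (-1)<|a 0<|b)<|c (a (-1)<|a 0<|a 1<|a (-1)<|a 1<|a 0<|a 1<|a (-1)<|b)<|c (a (-1)<|a 0<|a 1<|a 0<|a (-1)<|a 1<|a 0<|a 1<|b)<|c (a 0<|a 0<|a (-1)<|a 0<|a 1<|a 0<|a 0<|a 1<|b)<|d));
 (let d:=(c (a 1<|a (-1)<|a (-1)<|a 1<|a 1<|a (-1)<|a 0<|a 0<|b)<|c (a 1<|a 0<|a 0<|a (-1)<|a 1<|a 1<|a (-1)<|a 0<|b)<|c (a 1<|a 0<|a 0<|a 0<|a (-1)<|a 1<|a 1<|a (-1)<|b)<|c (a 1<|a 0<|a 0<|a 0<|a 0<|a (-1)<|a 1<|a 1<|b)<|d);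
 (c (a 0<|a 0<|a (-1)<|a 1<|a (-1)<|a 1<|a 0<|a 1<|b)<|c (a 1<|a 1<|a (-1)<|a 1<|a (-1)<|a 0<|a 0<|a 0<|b)<|c (a (-1)<|a 1<|a 0<|a 0<|a 1<|a (-1)<|a 0<|a 0<|b)<|c (a 0<|a (-1)<|a 1<|a 1<|a (-1)<|a 0<|a 0<|a 0<|b)<|d)));
 (let d:=(let d:=(c (a (-1)<|a 0<|a 1<|a (-1)<|a 1<|a 1<|a (-1)<|a 0<|b)<|c (a (-1)<|a 0<|a 1<|a 0<|a (-1)<|a 1<|a 1<|a (-1)<|b)<|c (a (-1)<|a 0<|a 1<|a 0<|a 0<|a (-1)<|a 1<|a 1<|b)<|c (a 0<|a 0<|a (-1)<|a 0<|a 1<|a 0<|a 1<|a (-1)<|b)<|d);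
 (c (a 1<|a 0<|a 0<|a 0<|a (-1)<|a 2<|a (-1)<|a 0<|b)<|c (a 1<|a 0<|a 0<|a 0<|a 0<|a (-1)<|a 2<|a (-1)<|b)<|c (a 1<|a 0<|a 0<|a 0<|a 0<|a 0<|a (-1)<|a 2<|b)<|c (a (-1)<|a (-1)<|a 0<|a 1<|a 1<|a (-1)<|a 0<|a 0<|b)<|d));
 (e (a 0<|a 0<|a (-1)<|a 1<|a 0<|a (-1)<|a 1<|a 1<|b)<|e (a 0<|a 1<|a 0<|a (-1)<|a 0<|a 1<|a 0<|a 1<|b)<|e (a 1<|a 2<|a 0<|a (-1)<|a 0<|a 0<|a 0<|a 0<|b)<|e (a (-1)<|a 1<|a 0<|a 1<|a (-1)<|a 0<|a 0<|a 0<|b)<|e (a 0<|a 0<|a 2<|a (-1)<|a 0<|a 0<|a 0<|a 0<|b)<|e (a 1<|a (-1)<|a (-1)<|a 2<|a (-1)<|a 0<|a 0<|a 0<|b)<|e (a 1<|a 0<|a 0<|a (-1)<|a 2<|a (-1)<|a 0<|a 0<|b)<|d))))) (by decide +kernel)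
  · exact H2.Ppd.index_ge cs isCartan_cE8 hi (beta% delta% lq262b4d3c1c fun a b c e _ g =>
 (let d:=(let d:=(let d:=(let d:=(c (a 0<|a 0<|a 0<|a 0<|a 1<|a (-1)<|a 0<|a 0<|b)<|c (a 0<|a 0<|a 0<|a 0<|a 0<|a 1<|a (-1)<|a 0<|b)<|c (a 0<|a 0<|a 0<|a 0<|a 0<|a 0<|a 1<|a (-1)<|b)<|c (a 0<|a 0<|a 0<|a 0<|a 0<|a 0<|a 0<|a 1<|b)<|g);
 (c (a 1<|a 1<|a (-1)<|a 0<|a 0<|a 0<|a 0<|a 0<|b)<|c (a 0<|a (-1)<|a 1<|a 0<|a 0<|a 0<|a 0<|a 0<|b)<|c (a 0<|a 1<|a 1<|a (-1)<|a 0<|a 0<|a 0<|a 0<|b)<|c (a 0<|a 0<|a 0<|a 1<|a (-1)<|a 0<|a 0<|a 0<|b)<|d));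
 (let d:=(c (a 1<|a 0<|a 0<|a (-1)<|a 1<|a 0<|a 0<|a 0<|b)<|c (a (-1)<|a (-1)<|a 0<|a 1<|a 0<|a 0<|a 0<|a 0<|b)<|c (a (-1)<|a 1<|a 0<|a 0<|a 0<|a 0<|a 0<|a 0<|b)<|c (a 1<|a (-1)<|a (-1)<|a 1<|a 0<|a 0<|a 0<|a 0<|b)<|d);
 (c (a (-1)<|a 0<|a 1<|a 0<|a (-1)<|a 1<|a 0<|a 0<|b)<|c (a 0<|a 0<|a (-1)<|a 0<|a 1<|a 0<|a 0<|a 0<|b)<|c (a 1<|a 0<|a 0<|a 0<|a (-1)<|a 1<|a 0<|a 0<|b)<|c (a (-1)<|a 0<|a 1<|a (-1)<|a 1<|a 0<|a 0<|a 0<|b)<|d)));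
 (let d:=(let d:=(c (a 1<|a 0<|a 0<|a 0<|a 0<|a 0<|a (-1)<|a 1<|b)<|c (a (-1)<|a 0<|a 1<|a 0<|a 0<|a (-1)<|a 1<|a 0<|b)<|c (a 0<|a 0<|a (-1)<|a 1<|a (-1)<|a 1<|a 0<|a 0<|b)<|c (a 1<|a 0<|a 0<|a 0<|a 0<|a (-1)<|a 1<|a 0<|b)<|d);
 (c (a 1<|a 0<|a 0<|a 0<|a 0<|a 0<|a 0<|a (-1)<|b)<|c (a (-1)<|a 0<|a 1<|a 0<|a 0<|a 0<|a (-1)<|a 1<|b)<|c (a 0<|a 0<|a (-1)<|a 1<|a 0<|a (-1)<|a 1<|a 0<|b)<|c (a 0<|a 1<|a 0<|a (-1)<|a 0<|a 1<|a 0<|a 0<|b)<|d));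
 (c (a 0<|a 1<|a 0<|a (-1)<|a 1<|a 0<|a (-1)<|a 1<|b)<|c (a 0<|a 1<|a 0<|a 0<|a (-1)<|a 0<|a 1<|a 0<|b)<|c (a 0<|a (-1)<|a 0<|a 0<|a 1<|a (-1)<|a 1<|a 0<|b)<|c (a (-1)<|a 0<|a 1<|a 0<|a 0<|a 0<|a 0<|a (-1)<|b)<|c (a 0<|a 0<|a (-1)<|a 1<|a 0<|a 0<|a (-1)<|a 1<|b)<|c (a 0<|a 1<|a 0<|a (-1)<|a 1<|a (-1)<|a 1<|a 0<|b)<|c (a 0<|a (-1)<|a 0<|a 0<|a 0<|a 1<|a 0<|a 0<|b)<|d)));
 (let d:=(let d:=(let d:=(c (a 0<|a 1<|a 0<|a 0<|a (-1)<|a 1<|a (-1)<|a 1<|b)<|c (a 0<|a (-1)<|a 0<|a 0<|a 1<|a 0<|a (-1)<|a 1<|b)<|c (a 0<|a (-1)<|a 0<|a 1<|a (-1)<|a 0<|a 1<|a 0<|b)<|c (a 0<|a 0<|a (-1)<|a 1<|a 0<|a 0<|a 0<|a (-1)<|b)<|d);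
 (c (a 0<|a (-1)<|a 0<|a 0<|a 1<|a 0<|a 0<|a (-1)<|b)<|c (a 0<|a (-1)<|a 0<|a 1<|a (-1)<|a 1<|a (-1)<|a 1<|b)<|c (a 0<|a 0<|a 1<|a (-1)<|a 0<|a 0<|a 1<|a 0<|b)<|c (a 0<|a 1<|a 0<|a (-1)<|a 1<|a 0<|a 0<|a (-1)<|b)<|d));
 (let d:=(c (a 0<|a 0<|a 1<|a (-1)<|a 0<|a 1<|a (-1)<|a 1<|b)<|c (a 1<|a 0<|a (-1)<|a 0<|a 0<|a 0<|a 1<|a 0<|b)<|c (a 0<|a 1<|a 0<|a 0<|a (-1)<|a 1<|a 0<|a (-1)<|b)<|c (a 0<|a 1<|a 0<|a 0<|a 0<|a (-1)<|a 0<|a 1<|b)<|d);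
 (c (a (-1)<|a 0<|a 0<|a 0<|a 0<|a 0<|a 1<|a 0<|b)<|c (a 0<|a 1<|a 0<|a 0<|a 0<|a (-1)<|a 1<|a (-1)<|b)<|c (a 0<|a (-1)<|a 0<|a 1<|a (-1)<|a 1<|a 0<|a (-1)<|b)<|c (a 0<|a (-1)<|a 0<|a 1<|a 0<|a (-1)<|a 0<|a 1<|b)<|d)));
 (let d:=(let d:=(c (a 0<|a (-1)<|a 0<|a 1<|a 0<|a (-1)<|a 1<|a (-1)<|b)<|c (a 0<|a 0<|a 1<|a (-1)<|a 0<|a 1<|a 0<|a (-1)<|b)<|c (a 0<|a 0<|a 1<|a (-1)<|a 1<|a (-1)<|a 0<|a 1<|b)<|c (a 1<|a 0<|a (-1)<|a 0<|a 0<|a 1<|a (-1)<|a 1<|b)<|d);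
 (c (a 1<|a 0<|a (-1)<|a 0<|a 0<|a 1<|a 0<|a (-1)<|b)<|c (a 1<|a 0<|a (-1)<|a 0<|a 1<|a (-1)<|a 0<|a 1<|b)<|c (a (-1)<|a 0<|a 0<|a 0<|a 0<|a 1<|a (-1)<|a 1<|b)<|c (a 0<|a 1<|a 0<|a 0<|a 0<|a 0<|a (-1)<|a 0<|b)<|d));
 (e (a 1<|a 0<|a (-1)<|a 0<|a 1<|a (-1)<|a 1<|a (-1)<|b)<|e (a 1<|a 0<|a (-1)<|a 1<|a (-1)<|a 0<|a 0<|a 1<|b)<|e (a (-1)<|a 0<|a 0<|a 0<|a 0<|a 1<|a 0<|a (-1)<|b)<|e (a (-1)<|a 0<|a 0<|a 0<|a 1<|a (-1)<|a 0<|a 1<|b)<|e (a 0<|a (-1)<|a 0<|a 1<|a 0<|a 0<|a (-1)<|a 0<|b)<|e (a 0<|a 0<|a 1<|a (-1)<|a 1<|a (-1)<|a 1<|a (-1)<|b)<|e (a 0<|a 0<|a 1<|a 0<|a (-1)<|a 0<|a 0<|a 1<|b)<|d))))) (by decide +kernel)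

end Cfsg.Agent.SM.Ti.Lo
end

-- part: SM/Ti/LoE
section
/-!
# S3570, tight cores: socles `F₄`, `E₆`, `E₇`, `E₈`, `²E₆` (helper69; set-ups from `H2/Ppd/Exc`)

`not_f4` (below the borderline), `not_e6`, `not_e7`, `not_e8`, `not_2e6`.
-/

set_option autoImplicit false
set_option linter.unusedSectionVars false
set_option linter.style.haveILetI false

namespace Cfsg.Agent.SM.Ti.Lo

universe u

open Matrix CoxeterSystem Cfsg.Agent.ChevalleyStructure.CoxeterGeom Cfsg.Agent.Tits.Roots Cfsg.Agent.Tits.Core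
  Cfsg.Agent.Tits.Exchange Cfsg.Agent.Nodes.Reps Cfsg.Agent.Nodes.BNOf Cfsg.Agent.Nodes.Bruhat
open Cfsg.Agent.H905.DC Cfsg.Agent.H915.LD Cfsg.Agent.H100.Ppd Cfsg.Agent.KFacts.MulOdd.Inst
open Cfsg.Agent.H64.CrossChev (Nd nd isType_F4 isType_E6 isType_E7 isType_E8 parity_E7)
open Cfsg.Agent.Nodes.RGDChev (IsType)
open Cfsg.Lie Cfsg.Agent.ChevalleyStructure Cfsg.Agent.ChevalleyStructure.Elts
  Cfsg.Agent.ChevalleyStructure.CoxeterGeomTypes Cfsg.Agent.KFacts.MulOdd.InstChev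
open Cfsg Cfsg.Geo
open scoped MatrixGroups
open Cfsg.Agent.H2.Ppd

theorem le_mul_div {a b : ℕ} (ha : 0 < a) : b ≤ a * (b / Nat.gcd a b) := by
  conv_lhs => rw [← Nat.mul_div_cancel' (Nat.gcd_dvd_right a b)]
  exact Nat.mul_le_mul_right _ (Nat.gcd_le_left _ ha)

theorem le_div {p a b d m : ℕ} (hp : 1 < p) (ha : 0 < a) (h : (p ^ a) ^ m ≤ (p ^ b) ^ d) : m ≤ d * (b / Nat.gcd a b) := by
  rw [← pow_mul, ← pow_mul, Nat.pow_le_pow_iff_right hp] at h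
  refine Nat.le_of_mul_le_mul_left (h.trans ?_) ha
  rw [mul_comm d, ← mul_assoc]
  exact Nat.mul_le_mul_right _ (le_mul_div ha)

theorem lt_div {p a b d m : ℕ} (hp : 1 < p) (ha : 0 < a) (h : (p ^ a) ^ m < (p ^ b) ^ d) : m < d * (b / Nat.gcd a b) := by
  rw [← pow_mul, ← pow_mul, Nat.pow_lt_pow_iff_right hp] at h
  refine Nat.lt_of_mul_lt_mul_left (a := a) (h.trans_le ?_)
  rw [mul_comm d, ← mul_assoc]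
  exact Nat.mul_le_mul_right _ (le_mul_div ha)

variable {n : ℕ} {F : Type u} [Field F] [Finite F] {m : ℕ} {P : Subgroup (GL (Fin n) F)}
  {K : Type} [Field K] [Fintype K] (p : ℕ) [hp : Fact p.Prime] [hFp : CharP F p] [hKp : CharP K p]
include hp hFp hKp

theorem chev (h : Tc m P) {D : ChevalleyDatum} {l : ℕ} {M : CoxeterMatrix (Fin l)} (ht : IsType D l M)
    (hpar : parity D l = true) {c : ℕ}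
    (hidx : ∀ (_ : Finite M.Group) (J : Set (Fin l)) (i : Fin l), i ∉ J → c ≤ (WJ M.toCoxeterSystem J).index)
    (e : Soc P ≃* ↥(D.group K)) : ∃ j, 1 ≤ j ∧ c * j ≤ n ∧ ∀ d, (Nat.card F ^ m ≤ Fintype.card K ^ d → m ≤ d * j) ∧
      (Nat.card F ^ m < Fintype.card K ^ d → m < d * j) := by
  obtain ⟨a, ha, hF'⟩ := exists_exp F p
  obtain ⟨b, -, hK⟩ := FiniteField.card K p
  have : Finite M.Group := Cfsg.Agent.Nodes.RGDChev.finite_W ht M.toCoxeterSystem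
  obtain ⟨J, ⟨i, hi⟩, h2, -⟩ := exists_J h.core (Cfsg.Agent.Nodes.RGDChev.rgd (K := K) ht M.toCoxeterSystem p)
    (Cfsg.Agent.Nodes.RGDChev.G1_eq_top ht M.toCoxeterSystem)
    (fun s hs t ht' => Subtype.ext (diag_comm ht.inList hs ht')) (E := fun _ => K) (nd ht hpar K) e hF'
    (f := fun _ => (b : ℕ)) (fun _ => hK)
  have h3 := h2 i hi
  rw [Fintype.card_fin] at h3
  have h4 := hidx this J i hi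
  have h5 : 1 ≤ (b : ℕ) / Nat.gcd a b :=
    Nat.div_pos (Nat.le_of_dvd b.pos (Nat.gcd_dvd_right _ _)) (Nat.gcd_pos_of_pos_right _ b.pos)
  have h6 := (Nat.mul_le_mul h4 (two_mul_le_two_pow h5)).trans h3
  refine ⟨_, h5, ?_, fun d => ?_⟩
  · rw [mul_left_comm] at h6
    omega
  · rw [hF', hK]
    exact ⟨le_div hp.out.one_lt ha, lt_div hp.out.one_lt ha⟩

theorem not_f4 (h : Tc m P) (hlt : Nat.card F ^ m < Fintype.card K ^ 12) (e : Soc P ≃* ↥(Cfsg.Lie.chevF4.group K)) :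
    False := by
  obtain ⟨j, -, h1, h2⟩ := chev p h isType_F4 parity_F4 (c := 24) (fun _ J i hi => index_F4 _ hi) e
  have h3 := (h2 12).2 hlt
  have h4 := h.hi
  omega

theorem not_e6 (h : Tc m P) (e : Soc P ≃* ↥(Cfsg.Lie.chevE6.group K)) : False := by
  obtain ⟨j, h0, h1, h2⟩ := chev p h isType_E6 parity_E6 (c := 26) (fun _ J i hi => Lo.index_E6 _ hi) e
  have h3 := (h2 12).1 (h.le_of_dg e (H47.Fd.fd_e6 p) (Nat.card_eq_fintype_card (α := K) ▸ exists_exp K p) (by norm_num) dg_e6)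
  have h4 := h.hi
  omega

theorem not_e7 (h : Tc m P) (e : Soc P ≃* ↥(Cfsg.Lie.chevE7.group K)) : False := by
  obtain ⟨j, h0, h1, h2⟩ := chev p h isType_E7 parity_E7 (c := 38) (fun _ J i hi => Lo.index_E7 _ hi) e
  have h3 := (h2 18).1 (h.le_of_dg e (H47.Fd.fd_e7 p) (Nat.card_eq_fintype_card (α := K) ▸ exists_exp K p) (by norm_num) dg_e7)
  have h4 := h.hi
  omega

theorem not_e8 (h : Tc m P) (e : Soc P ≃* ↥(Cfsg.Lie.chevE8.group K)) : False := by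
  obtain ⟨j, h0, h1, h2⟩ := chev p h isType_E8 parity_E8 (c := 62) (fun _ J i hi => Lo.index_E8 _ hi) e
  have h3 := (h2 30).1 (h.le_of_dg e (H47.Fd.fd_e8 p) (Nat.card_eq_fintype_card (α := K) ▸ exists_exp K p) (by norm_num) dg_e8)
  have h4 := h.hi
  omega

omit hFp in
theorem exists_q {q c : ℕ} (hq : IsPrimePow q) (hc : c ≠ 0) (hK : Fintype.card K = q ^ c) : ∃ b, 0 < b ∧ q = p ^ b := by
  obtain ⟨b', -, hK'⟩ := FiniteField.card K p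
  obtain ⟨s, x, hs, hx, rfl⟩ := (isPrimePow_nat_iff _).1 hq
  have h2 : s ∣ p ^ (b' : ℕ) := by
    rw [← hK', hK]
    exact dvd_pow (dvd_pow_self s hx.ne') hc
  exact ⟨x, hx, by rw [(Nat.prime_dvd_prime_iff_eq hs hp.out).1 (hs.dvd_of_dvd_pow h2)]⟩

theorem not_2e6_lt (h : Tc m P) {q₀ : ℕ} (hq : IsPrimePow q₀) (hK : Fintype.card K = q₀ ^ 2)
    (hlt : Nat.card F ^ m < Fintype.card K ^ 9) (e : Soc P ≃* ↥(Cfsg.Lie.twistedE6 K q₀)) : False := by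
  classical
  obtain ⟨a, ha, hF'⟩ := exists_exp F p
  obtain ⟨b, hb, hqb⟩ := exists_q p hq two_ne_zero hK
  have hq1 := hq.one_lt
  have hb2 : 0 < b * 2 := by omega
  have h7 : m < 9 * (b * 2 / Nat.gcd a (b * 2)) := by
    rw [hF', hK, hqb, ← pow_mul p b] at hlt
    exact lt_div hp.out.one_lt ha hlt
  -- the data
  obtain ⟨φ, hφ, hqq⟩ := TwE6Basic.exists_frob hq hK
  let _ : ∀ i : Fin 4, Fintype (Cfsg.Agent.Nodes.RGDFoldSL.Fx φ ((Nodes.RGDTwNode.E6.rest i).length + 1)) :=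
    fun i => Fintype.ofFinite _
  have hch : ∀ i : Fin 4, CharP (Cfsg.Agent.Nodes.RGDFoldSL.Fx φ ((Nodes.RGDTwNode.E6.rest i).length + 1)) p :=
    fun i => (RingHom.charP_iff (Cfsg.Agent.Nodes.RGDFoldSL.Fx φ _).subtype
      (Cfsg.Agent.Nodes.RGDFoldSL.Fx φ _).subtype_injective p).2 inferInstance
  have hN := fun i : Fin 4 =>
    Cfsg.Agent.H59.CrossTw.nd_fold (Nodes.RGDTwE6.foldGrp hφ hqq) (Nodes.RGDTwNode.E6.nodeOK i) (φ := φ)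
      (fun s hs t => by rw [Nodes.RGDTwNode.E6.eps_one i s hs, Int.cast_one, one_mul])
      (Cfsg.Agent.KFacts.MulOdd.InstTw.parityTw_spec Cfsg.Agent.KFacts.MulOdd.InstTw.parity_E6 i).choose_spec.1
      (Cfsg.Agent.KFacts.MulOdd.InstTw.parityTw_spec Cfsg.Agent.KFacts.MulOdd.InstTw.parity_E6 i).choose_spec.2
  have hW : Finite CoxeterMatrix.F₄.Group :=
    Cfsg.Agent.Nodes.RGDFold.finite_W (hp := isType_E6) CoxeterMatrix.F₄.toCoxeterSystem Nodes.RGDTwE6.isCartan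
      Nodes.RGDTwE6.foldData
  have hcard : ∀ i : Fin 4, Fintype.card (Cfsg.Agent.Nodes.RGDFoldSL.Fx φ ((Nodes.RGDTwNode.E6.rest i).length + 1)) =
      p ^ (![b, b, b * 2, b * 2] i) := by
    have e1 : Nat.card (Cfsg.Agent.Nodes.RGDFoldSL.Fx φ 1) = q₀ := by
      have h2 := Cfsg.Agent.H59.CrossTw.card_Fx_one hq1 hK hφ
      have h3 : 0 < Nat.card (Cfsg.Agent.Nodes.RGDFoldSL.Fx φ 1) := Nat.card_pos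
      omega
    have e2 := Cfsg.Agent.H59.CrossTw.card_Fx_eq hK hφ
    intro i
    rw [← Nat.card_eq_fintype_card]
    fin_cases i
    · exact e1.trans hqb
    · exact e1.trans hqb
    · refine e2.trans ?_
      rw [hqb, ← pow_mul]
      rfl
    · refine e2.trans ?_
      rw [hqb, ← pow_mul]
      rfl
  obtain ⟨J, ⟨i, hi⟩, h2, h3⟩ := exists_J h.core
    (Nodes.RGDFold.rgd CoxeterMatrix.F₄.toCoxeterSystem Nodes.RGDTwE6.isCartan Nodes.RGDTwE6.foldData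
      (Nodes.RGDTwE6.foldGrp hφ hqq) p)
    (Nodes.RGDFold.G1_eq_top CoxeterMatrix.F₄.toCoxeterSystem Nodes.RGDTwE6.isCartan Nodes.RGDTwE6.foldData
      (Nodes.RGDTwE6.foldGrp hφ hqq) p)
    (fun s hs t ht' => Subtype.ext (diag_comm isType_E6.inList (Subgroup.mem_subgroupOf.1 hs).1
      (Subgroup.mem_subgroupOf.1 ht').1)) hN e hF' hcard
  rw [Fintype.card_fin] at h2 h3
  have h8 := h.hi
  -- `e_S` and `e_L`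
  have hS : 1 ≤ b * 2 / Nat.gcd a (b * 2) :=
    Nat.div_pos (Nat.le_of_dvd hb2 (Nat.gcd_dvd_right _ _)) (Nat.gcd_pos_of_pos_right _ hb2)
  have hL : 1 ≤ b / Nat.gcd a b :=
    Nat.div_pos (Nat.le_of_dvd hb (Nat.gcd_dvd_right _ _)) (Nat.gcd_pos_of_pos_right _ hb)
  have hSL : b * 2 / Nat.gcd a (b * 2) ≤ 2 * (b / Nat.gcd a b) := div_gcd_le hb
  have g2 := h2 2
  have g3 := h2 3
  have g1 := h2 1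
  change 2 ∉ J → _ * 2 ^ (b * 2 / Nat.gcd a (b * 2)) ≤ _ at g2
  change 3 ∉ J → _ * 2 ^ (b * 2 / Nat.gcd a (b * 2)) ≤ _ at g3
  change 1 ∉ J → _ * 2 ^ (b / Nat.gcd a b) ≤ _ at g1
  have g0 := fun h0 : (0 : Fin 4) ∉ J => fun hJ => h3 0 h0 hJ 3 (LF.filter fun v => decide (0 < v 3))
    (LF.filter fun v => decide (v 3 = 0))
  change ∀ h0 : (0 : Fin 4) ∉ J, _ → _ → _ → _ → _ → _ → _ →
    _ * 2 ^ (b * 2 / Nat.gcd a (b * 2)) + _ ≤ _ at g0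
  set S := b * 2 / Nat.gcd a (b * 2) with hSdef
  set T := b / Nat.gcd a b with hTdef
  have hSp := two_mul_le_two_pow hS
  have hTp := two_mul_le_two_pow hL
  by_cases h20 : (2 : Fin 4) ∈ J
  swap
  · have h9 := g2 h20
    have h10 := Nat.mul_le_mul (index_F4 CoxeterMatrix.F₄.toCoxeterSystem h20) hSp
    omega
  by_cases h30 : (3 : Fin 4) ∈ J
  swap
  · have h9 := g3 h30
    have h10 := Nat.mul_le_mul (index_F4 CoxeterMatrix.F₄.toCoxeterSystem h30) hSp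
    omega
  by_cases h10 : (1 : Fin 4) ∈ J
  swap
  · have h9 := g1 h10
    have h10 := Nat.mul_le_mul (index_F4' CoxeterMatrix.F₄.toCoxeterSystem h10) hTp
    omega
  have h00 : (0 : Fin 4) ∉ J := by
    intro h0
    apply hi
    fin_cases i
    · exact h0
    · exact h10
    · exact h20
    · exact h30
  obtain ⟨o1, o2⟩ := exists_of_chn CoxeterMatrix.F₄.toCoxeterSystem Nodes.RGDTwE6.isCartan chn_LF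
  have h9 := g0 h00 (by
      intro i hi
      fin_cases i
      · rfl
      · exact absurd h10 hi
      · exact absurd h20 hi
      · exact absurd h30 hi)
    (fun v hv => of_decide_eq_true (List.mem_filter.1 hv).2)
    (fun v hv => of_decide_eq_true (List.mem_filter.1 hv).2)
    (o2.filter _) (o2.filter _) (fun v hv => o1 v (List.mem_filter.1 hv).1) (fun v hv => o1 v (List.mem_filter.1 hv).1)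
  rw [LF_pos, LF_zero] at h9
  -- `6 * 2 ^ S + 12 ≥ 18 S`
  have h11 : 18 * S ≤ 6 * 2 ^ S + 12 := by
    rcases Nat.lt_or_ge S 2 with h12 | h12
    · have h13 : S = 1 := by omega
      rw [h13]
      norm_num
    · have h14 := three_mul_le h12
      omega
  omega

omit hp hFp hKp in
theorem not_dvd_add {r x : ℕ} (hr : r.Prime) (h2 : r ≠ 2) (hx : 1 ≤ x) (h1 : r ∣ x - 1) : ¬ r ∣ x + 1 := fun h3 => by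
  have h4 := Nat.dvd_sub h3 h1
  rw [show x + 1 - (x - 1) = 2 by omega] at h4
  exact h2 ((Nat.prime_dvd_prime_iff_eq hr Nat.prime_two).1 h4)

theorem not_2e6 (h : Tc m P) {q₀ : ℕ} (hq : IsPrimePow q₀) (hK : Fintype.card K = q₀ ^ 2)
    (e : Soc P ≃* ↥(Cfsg.Lie.twistedE6 K q₀)) : False := by
  have hT := H47.Fd.fd_2e6 p hq hK
  have hD := dg_2e6 hq hK
  rcases (h.le_of_dg e hT (Nat.card_eq_fintype_card (α := K) ▸ exists_exp K p) (by norm_num) hD).eq_or_lt with heq | hlt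
  swap
  · exact not_2e6_lt p h hq hK hlt e
  obtain ⟨a, ha, hF⟩ := exists_exp F p
  obtain ⟨b, hb, rfl⟩ := exists_q p hq two_ne_zero hK
  rw [hK, ← pow_mul] at hD
  rw [hK, hF, ← pow_mul, ← pow_mul, ← pow_mul] at heq
  have ham : a * m = b * (2 * 9) := Nat.pow_right_injective hp.out.two_le heq
  have h6 := h.six
  obtain ⟨r, hr, h3, h4, h5, h7⟩ := h.ppd (k := b * 9) hp.out hF (by omega) (by omega) ⟨2, by rw [ham]; ring⟩ fun h3 => by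
    have h4 := Nat.mul_le_mul (Nat.le_of_dvd ha h3) h6
    omega
  have h8 := Nat.le_of_dvd (by have := hr.two_le; omega) h5
  have h9 := hr.two_le
  have h10 := h.dvd_card e hp.out hT hD hr (by omega) (fun h10 => (hr.dvd_mul.1 h10).elim
    (fun h11 => by have := Nat.le_of_dvd hb h11; omega) fun h11 => by have := Nat.le_of_dvd two_pos h11; omega) (by omega) h3
  have key : ∀ i, r ∣ (p ^ b) ^ i - 1 ↔ 9 ∣ i := fun i => by rw [← pow_mul, h4, Nat.mul_dvd_mul_iff_left hb]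
  have h11 := h10.mul_left (Nat.gcd 3 (p ^ b + 1))
  rw [S1066.result hq hK] at h11
  simp only [hr.dvd_mul, key] at h11
  rcases h11 with (((((h11 | h11) | h11) | h11) | h11) | h11) | h11
  · exact h7 (hr.dvd_of_dvd_pow (hr.dvd_of_dvd_pow h11))
  · omega
  · have := (key _).1 (h11.trans (add_dvd_sub _ 5))
    omega
  · omega
  · omega
  · exact not_dvd_add hr (by omega) (Nat.one_le_pow _ _ (pow_pos hp.out.pos _)) ((key 9).2 dvd_rfl) h11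
  · omega

end Cfsg.Agent.SM.Ti.Lo
end
end

-- part: SM/Ti/Dm
section
prune_inst 0x2070446ca2000000000012220000242c000002006b800169a103400908432080002f000e800001c846b2801000000000000010000000000000300000020000000256000334ad0c160006800084000000000000000000000000000000000004000000000
set_option linter.all false
open scoped Cfsg.Agent.FastGrp

/-!
# S3570, tight cores: `PΩ⁻_{2l}(K)` (helper95, `notes/SM/ti.md`)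

`W = B_(l-1)`, `|F| ^ j = |K| ^ 2`, `m = j l`, `n ≤ 2 j l + 1`.  The lower bounds of the degree leave the first node only,
its index `th |K| (l - 1) (1 + |K| ^ l)` is smaller than `2 th |F| m`.

* **`boxDm`** : `BoxDm`.
-/

set_option autoImplicit false
set_option linter.unusedSectionVars false
set_option linter.style.haveILetI false

namespace Cfsg.Agent.SM.Ti.Dm

open CoxeterSystem Cfsg.Agent.ChevalleyStructure.CoxeterGeom Cfsg.Agent.Tits.Roots Cfsg.Agent.Tits.Core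
  Cfsg.Agent.Nodes.Reps Cfsg.Agent.Nodes.BNOf Cfsg.Agent.Nodes.Bruhat Cfsg.Agent.Nodes.RGDLib
open Cfsg.Agent.Nodes Cfsg.Agent.Nodes.WittRoot Cfsg.Agent.Nodes.WittRGD Cfsg.Agent.Nodes.WittAll Cfsg.Agent.Nodes.WittInst
open Cfsg.Agent.Nodes.TypeC (isCartan)
open Cfsg.Agent.Nodes.LeviDec
open Cfsg.Agent.TitsThree.Siegel Cfsg.Agent.TitsThree.SiegelGen Cfsg.Agent.TitsThree.WittFrame Cfsg.Agent.TitsThree.FrameCN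
  Cfsg.Agent.TitsThree.WBridge Cfsg.Agent.TitsThree.KSideO Cfsg.Agent.TitsThree Cfsg.Agent.TitsThree.StdData
open Cfsg.Agent.LieClassical Cfsg.Agent.LieClassical.OrthCore Cfsg.Agent.LieClassical.OrthTrans
open Cfsg.Agent.LieClassical.OrthSimple Cfsg.Agent.LieClassical.OrthFinite Cfsg.Agent.LieClassical.OrthForms
open Cfsg.Agent.H915.LD Cfsg.Agent.H911 Cfsg.Agent.H905.Md Cfsg.Agent.H925.Nat Cfsg.Agent.Nodes.RGDLift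
open Cfsg.Agent.H156.Ppd (Cov lrep exists_cov)
open Cfsg.Agent.Omega.CR Cfsg.Agent.Omega.FOne.Lift.Sd
open Cfsg.Agent.H948.Ppd Cfsg.Agent.H948.Ppd.Minus
open Cfsg Cfsg.Geo QuadraticMap
open scoped MatrixGroups Matrix

/-! ### numbers -/

/-- the first node -/
theorem first {Q q j l x : ℕ} (hq : 2 ≤ q) (hQ : 1 ≤ Q) (hj : 1 ≤ j) (h1 : Q ^ j = q ^ 2) (hl : 1 ≤ l) (hx : 2 ≤ x)
    (e : th q l * (1 + q ^ (l - 1) * q ^ 2) = x * th Q (j * (l + 1))) : False := by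
  have h2 := th_mul hQ (j * (l + 1))
  have h3 := th_mul (Q := q) (by omega) l
  have h4 : Q ≤ q ^ 2 := h1 ▸ Nat.le_self_pow (by omega) Q
  rw [pow_mul, h1, ← pow_mul] at h2
  have h5 : q ^ (l - 1) * q ^ 2 = q * q ^ l := by
    rw [← pow_add, ← pow_succ']
    congr 1
    omega
  have h6 : q ^ (2 * (l + 1)) = (q * q ^ l) ^ 2 := by ring
  have h7 : q ≤ q ^ l := Nat.le_self_pow (by omega) q
  rw [h5] at e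
  rw [h6] at h2
  obtain ⟨y, rfl⟩ : ∃ y, q = y + 1 := ⟨q - 1, by omega⟩
  obtain ⟨Z, rfl⟩ : ∃ Z, Q = Z + 1 := ⟨Q - 1, by omega⟩
  rw [Nat.add_sub_cancel] at h2 h3
  generalize th (y + 1) l = A at *
  generalize th (Z + 1) (j * (l + 1)) = B at *
  generalize (y + 1) ^ l = u at *
  obtain ⟨v, hv⟩ : ∃ v, (y + 1) * u = v + 1 := ⟨(y + 1) * u - 1, by
    have : 0 < (y + 1) * u := Nat.mul_pos (by omega) (by omega)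
    omega⟩
  rw [hv] at e h2
  have h8 : B * Z = v * (v + 2) := by linarith only [h2]
  have h9 : A * Z = x * v := by
    refine Nat.eq_of_mul_eq_mul_right (show 0 < v + 2 by omega) ?_
    calc A * Z * (v + 2) = A * (1 + (v + 1)) * Z := by ring
      _ = x * (B * Z) := by rw [e]; ring
      _ = x * v * (v + 2) := by rw [h8]; ring
  have h10 : Z ≤ y * (y + 2) := by linarith only [h4]
  have h11 : A * Z ≤ A * (y * (y + 2)) := Nat.mul_le_mul_left _ h10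
  have h12 : 2 * v ≤ x * v := Nat.mul_le_mul_right _ hx
  have h13 : u ≤ y * u := Nat.le_mul_of_pos_left _ (by omega)
  have h14 : A * (y * (y + 2)) + (y + 2) = u * (y + 2) := by rw [← h3]; ring
  linarith only [hv, h9, h11, h12, h13, h14]

theorem last {l j n d ε : ℕ} (hl : 3 ≤ l) (hj : 1 ≤ j) (h6 : 6 ≤ j * (l + 1)) (hn : n ≤ 2 * (j * (l + 1)) + 1)
    (hd : ∃ m, 2 ≤ m ∧ d = m ^ j) (hε : d ≤ ε + 2) (h : 2 ^ l + l * 2 ^ (l - 1) * ε ≤ n) : False := by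
  obtain ⟨x, rfl⟩ : ∃ x, j = x + 1 := ⟨j - 1, by omega⟩
  have h1 := eps_ge hd hε
  have h2 := succ_le_pow hl
  have e : 2 ^ l = 2 * 2 ^ (l - 1) := by
    rw [← pow_succ']
    congr 1
    omega
  rw [e] at h
  have h3 : l * (l + 1) * (2 * x) ≤ l * 2 ^ (l - 1) * ε := Nat.mul_le_mul (Nat.mul_le_mul_left _ h2) h1
  have h4 : 3 * (l + 1) * (2 * x) ≤ l * (l + 1) * (2 * x) := Nat.mul_le_mul_right _ (Nat.mul_le_mul_right _ hl)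
  have h5 : 3 * (l + 1) * (2 * x) = 6 * (x * (l + 1)) := by ring
  have h7 : (x + 1) * (l + 1) = x * (l + 1) + (l + 1) := by ring
  rw [h7] at hn h6
  have h8 : x * (l + 1) = 0 := by omega
  have h9 : 4 ≤ l - 1 := by omega
  obtain ⟨k, hk⟩ : ∃ k, l - 1 = k + 1 := ⟨l - 2, by omega⟩
  have h10 := succ_le_pow (l := k + 1) (by omega)
  rw [Nat.add_sub_cancel] at h10
  rw [hk, pow_succ] at h
  omega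

theorem choose_ge {l k : ℕ} (hl : 4 ≤ l) (h1 : 2 ≤ k) (h2 : k < l) : 4 * l + 6 ≤ l.choose k * 2 ^ k := by
  rcases Nat.lt_or_ge 2 k with h3 | h3
  · have h4 := TypeB.le_choose (n := l) (k := k) (by omega) h2
    have h5 : 2 ^ 3 ≤ 2 ^ k := Nat.pow_le_pow_right (by norm_num) h3
    have h6 : l * 2 ^ 3 ≤ l.choose k * 2 ^ k := Nat.mul_le_mul h4 h5
    omega
  · obtain rfl : k = 2 := by omega
    rw [Nat.choose_two_right]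
    have h4 : 2 * (l * (l - 1) / 2) = l * (l - 1) := Nat.mul_div_cancel' (Nat.even_mul_pred_self l).two_dvd
    have h5 : l * 3 ≤ l * (l - 1) := Nat.mul_le_mul_left _ (by omega)
    omega

theorem mid {l j n d c : ℕ} (hn : n ≤ 2 * (j * (l + 1)) + 1) (hd : j ≤ d) (hd2 : 2 ≤ d) (hc : 4 * l + 6 ≤ c)
    (h : c * d ≤ 2 * n) : False := by
  have h1 : (4 * l + 6) * d ≤ c * d := Nat.mul_le_mul_right _ hc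
  have h2 : j * (l + 1) ≤ d * (l + 1) := Nat.mul_le_mul_right _ hd
  have h3 : (4 * l + 6) * d = 4 * (d * (l + 1)) + 2 * d := by ring
  omega

/-! ### the row -/

theorem card_nd {I W Y : Type*} [Fintype I] [DecidableEq I] [Group W] [Group Y] {M : CoxeterMatrix I}
    {cs : CoxeterSystem M W} {A : I → I → ℤ} {h : IsCartan M A} {p : ℕ} {T : Subgroup Y} {n : I → Y}
    {X : (I → ℤ) → Subgroup Y} (R : RGD cs h p T n X) {i : I} {E : Type*} [Field E] {σ : SL(2, E) →* Y}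
    (N : Nd T X i σ) : Nat.card (X (sr i)) = Nat.card E :=
  (Nat.card_congr (Equiv.ofBijective (fun t : E => (⟨σ (SLTwo.U t), (N.up _).2 ⟨t, rfl⟩⟩ : X (sr i)))
    ⟨fun _ _ e => N.U_inj R (congrArg Subtype.val e), fun y => by
      obtain ⟨t, ht⟩ := (N.up y).1 y.2
      exact ⟨t, Subtype.ext ht⟩⟩)).symm

/-- **[Ti-Dm]** -/
theorem boxDm : BoxDm := by
  intro n m p hp F _ _ _ K _ _ _ P h l a b hl hab hcard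
  refine ⟨fun e => ?_⟩
  have hC := h.core
  obtain ⟨l, rfl⟩ : ∃ l', l = l' + 1 := ⟨l - 1, by omega⟩
  have hl3 : 3 ≤ l := by omega
  have e' : Soc P ≃* POmega K (quadFormMinus l K a b) := e
  have hG := good_minus (m := l) hab (by omega)
  have hA := ambT_minus hab p (by omega) hG
  have hp0 := pc_ne (m := l) hab
  rw [← coe_minusForm] at e'
  have hWf : Finite (CoxeterMatrix.B l).Group := TypeC.finite_W (CoxeterMatrix.B l).toCoxeterSystem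
  have hperf : commutator ↥(MM hab hG).I = ⊤ := H911.Five.commutator_top hG.E_perfect
  obtain ⟨Y, _, _, f, φ, n₁, C⟩ := exists_covB hC hA hp0 (by omega) hperf e'
  have hT' := torus_comm_minus hab hG (by omega) hA
  obtain ⟨hT, hpow⟩ := lift_comm_pow C hp0 hT' (N₀ := Nat.card K ^ 2) fun i => nodes hab hG hA i
  -- the fields
  obtain ⟨f₀, -, hf₀⟩ := FiniteField.card K p
  rw [← Nat.card_eq_fintype_card] at hf₀ hcard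
  have := Fintype.ofFinite F
  obtain ⟨a₀, -, ha₀⟩ := FiniteField.card F p
  rw [← Nat.card_eq_fintype_card] at ha₀
  obtain ⟨j, hj, hjK⟩ := C.exists_j hC hT (a := (f₀ : ℕ) * 2) (Nat.mul_ne_zero f₀.ne_zero two_ne_zero)
    (by rw [pow_mul, ← hf₀]; exact hpow)
  rw [pow_mul, ← hf₀] at hjK
  have haj : (a₀ : ℕ) * j = f₀ * 2 := by
    have h1 : p ^ ((a₀ : ℕ) * j) = p ^ ((f₀ : ℕ) * 2) := by
      rw [pow_mul, ← ha₀, hjK, hf₀, ← pow_mul]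
    exact Nat.pow_right_injective hp.out.two_le h1
  have hF1 := Finite.one_lt_card (α := F)
  have hK1 := Finite.one_lt_card (α := K)
  have hm : m = j * (l + 1) := Tool.jm hF1 hjK (by rw [hcard, pow_mul])
  have hn := h.hi
  have h6 := h.six
  rw [hm] at hn h6
  -- the nodes
  have hlast : ∀ i : Fin l, (i : ℕ) + 1 = l → ∃ (E : Type) (_ : Field E) (_ : Finite E) (_ : CharP E p)
      (σ : SL(2, E) →* Y), Nat.card E = Nat.card F ^ j ∧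
        Nd ((TB (MM hab hG)).comap f) (fun x => lft p f (XB (MM hab hG) x)) i σ := by
    intro i hi
    obtain ⟨E, i1, i2, i3, σ', h1, -, N'⟩ := node_last hab hG hA hi
    obtain ⟨σ, -, N⟩ := lift_nd C hp0 N'
    exact ⟨E, i1, i2, i3, σ, by rw [h1, hjK], N⟩
  have hlong : ∀ i : Fin l, (i : ℕ) + 1 < l → ∃ σ : SL(2, K) →* Y,
        Nd ((TB (MM hab hG)).comap f) (fun x => lft p f (XB (MM hab hG) x)) i σ := by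
    intro i hi
    obtain ⟨σ', -, N'⟩ := node_long hab hG hA hi
    obtain ⟨σ, -, N⟩ := lift_nd C hp0 N'
    exact ⟨σ, N⟩
  have hedge : ∀ i : Fin l, (i : ℕ) + 1 < l → i ∉ JB (MM hab hG) p f φ →
      ∃ s, 1 ≤ s ∧ (j = 2 * s ∨ j = s) ∧ ∃ m, 2 ≤ m ∧ dB (MM hab hG) p f φ i = m ^ s := by
    intro i hi hiJ
    obtain ⟨σ, N⟩ := hlong i hi
    rcases Nat.even_or_odd' j with ⟨j', hj' | hj'⟩
    · have hfa : (f₀ : ℕ) = a₀ * j' := by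
        have h1 : (a₀ : ℕ) * (2 * j') = a₀ * j' * 2 := by ring
        rw [hj'] at haj
        omega
      exact ⟨j', by omega, Or.inl hj', edge_pow_B hC C hT hiJ N (by rw [hf₀, ha₀, ← pow_mul, hfa])⟩
    · obtain ⟨a₁, ha₁⟩ : ∃ a₁, (a₀ : ℕ) = 2 * a₁ := by
        have h1 : Even ((a₀ : ℕ) * j) := by
          rw [haj, mul_comm]
          exact even_two_mul _
        rcases Nat.even_mul.1 h1 with ⟨x, hx⟩ | ⟨x, hx⟩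
        · exact ⟨x, by omega⟩
        · omega
      have hf₁ : (f₀ : ℕ) = a₁ * j := by
        have h1 : 2 * (a₁ * j) = f₀ * 2 := by rw [← haj, ha₁]; ring
        omega
      have hgcd : j * Nat.gcd a₀ f₀ = f₀ := by
        have h1 : Nat.gcd 2 j = 1 := by
          rw [hj']
          exact (Nat.coprime_two_left).2 ⟨j', rfl⟩
        rw [ha₁, hf₁, mul_comm 2 a₁, Nat.gcd_mul_left, h1, mul_one, mul_comm]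
      exact ⟨j, hj, Or.inr rfl, edge_pow_B' hC C hT hiJ N ha₀ hf₀ hgcd⟩
  have hJ : ∀ i : Fin l, 1 ≤ (i : ℕ) → i ∈ JB (MM hab hG) p f φ := by
    intro i hi1
    by_contra hiJ
    by_cases hi : (i : ℕ) + 1 < l
    · obtain ⟨s, hs, hjs, hd⟩ := hedge i hi hiJ
      have hd' := d_ge hs hd
      rcases Nat.lt_or_ge 3 l with hl4 | hl3'
      · have h3 := bound_all hC C hT hiJ
        rw [Fintype.card_fin] at h3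
        exact mid hn (by omega) (by omega) (choose_ge hl4 (by omega) hi) h3
      · obtain rfl : l = 3 := by omega
        obtain rfl : i = 1 := by
          apply Fin.ext
          change (i : ℕ) = 1
          omega
        obtain ⟨ε, hε, h3⟩ := bound_mid hC C hT hiJ
        rw [Fintype.card_fin] at h3
        obtain rfl : j = 2 := by omega
        obtain ⟨E, i1, i2, i3, σ, h1, N⟩ := hlast 2 rfl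
        have h5 := bound_levi hC C hT hiJ N ha₀ h1
        rw [Fintype.card_fin] at h5
        omega
    · obtain ⟨E, i1, i2, i3, σ, h1, N⟩ := hlast i (by omega)
      obtain ⟨ε, hε, h3⟩ := bound_last hC C hT (by omega) hiJ
      rw [Fintype.card_fin] at h3
      exact last hl3 hj h6 hn (edge_pow_B hC C hT hiJ N h1) hε h3
  have hJ' : JB (MM hab hG) p f φ = {i : Fin l | (i : ℕ) + 1 ≠ 1} := by
    obtain ⟨i, hi⟩ := exists_node hC C hT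
    ext k
    refine ⟨fun hk h0 => hi ?_, fun hk => hJ k (by simp only [Set.mem_ofPred_eq] at hk; omega)⟩
    by_cases h1 : 1 ≤ (i : ℕ)
    · exact hJ i h1
    · rwa [show i = k from Fin.ext (by omega)]
  -- the index
  obtain ⟨⟨s, -, h1⟩, -⟩ := h.big C.rgd C.hGG hT C.range
  have h2 := H965.XZ.index_B C.rgd C.hGG (y := Nat.card K) (z := Nat.card K ^ 2)
    (fun i hi => by
      obtain ⟨σ, N⟩ := hlong i hi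
      exact card_nd C.rgd N)
    (fun i hi => by
      obtain ⟨E, i1, i2, i3, σ, h1, N⟩ := hlast i hi
      rw [← hjK, ← h1]
      exact card_nd C.rgd N) (a := 1) le_rfl (by omega)
  rw [← hJ', h1, Finset.prod_range_one, Finset.prod_range_one, hm, add_zero, show l - 1 + 1 = l by omega,
    show H965.XZ.gs (Nat.card K) (0 + 1) = 1 by simp [H965.XZ.gs], mul_one] at h2
  exact first hK1 hF1.le hj hjK (by omega) (Tool.two_le_add hp.out) h2.symm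

end Cfsg.Agent.SM.Ti.Dm
end

-- part: SM/Ti/LoD
section
set_option linter.all false
open scoped Cfsg.Agent.FastGrp

/-!
# S3570, tight cores below the borderline: orthogonal socles of plus type (helper69; the proof is that of `H156/Ppd`)
-/

set_option autoImplicit false
set_option linter.unusedSectionVars false
set_option linter.style.haveILetI false

namespace Cfsg.Agent.SM.Ti.Lo

universe u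

open CoxeterSystem Cfsg.Agent.ChevalleyStructure.CoxeterGeom Cfsg.Agent.Tits.Roots Cfsg.Agent.Tits.Core
  Cfsg.Agent.Nodes.Reps Cfsg.Agent.Nodes.BNOf Cfsg.Agent.Nodes.Bruhat Cfsg.Agent.Nodes.RGDLib
open QuadraticMap
open Cfsg.Agent.LieClassical Cfsg.Agent.LieClassical.OrthCore Cfsg.Agent.LieClassical.OrthTrans
open Cfsg.Agent.LieClassical.OrthSimple Cfsg.Agent.LieClassical.OrthFinite Cfsg.Agent.LieClassical.OrthForms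
open Cfsg.Agent.TitsThree Cfsg.Agent.TitsThree.KSideO Cfsg.Agent.TitsThree.StdData
open Cfsg.Agent.Nodes Cfsg.Agent.Nodes.WittAll Cfsg.Agent.Nodes.WittInst Cfsg.Agent.Nodes.WittU
  Cfsg.Agent.TitsThree.Siegel Cfsg.Agent.TitsThree.SiegelGen
  Cfsg.Agent.TitsThree.WittFrame Cfsg.Agent.TitsThree.WBridge Cfsg.Agent.TitsThree.WittWeyl
  Cfsg.Agent.TitsThree.FrameCN
open Cfsg.Agent.Nodes.WittRoot (Mono)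
open Cfsg.Agent.Nodes.WittRGD (Tor)
open Cfsg.Agent.H905.Md Cfsg.Agent.H915.LD Cfsg.Agent.H925.Nat Cfsg.Agent.H100.Ppd Cfsg.Agent.H911
open Cfsg.Agent.H67.Cross
open Cfsg.Agent.KFacts.MulOdd.Inst (Lv)
open Cfsg.Agent.OddHalf.NI.Mult (up lo dg Coord)
open Cfsg Cfsg.Geo
open scoped MatrixGroups Matrix
open Cfsg.Agent.H156.Ppd Cfsg.Agent.H156.Ppd.PPlus

variable {n : ℕ} {F : Type u} [Field F] [Finite F] {m : ℕ} {P : Subgroup (GL (Fin n) F)}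
  {K : Type} [Field K] [Fintype K] (p : ℕ) [hp : Fact p.Prime] [hFp : CharP F p] [hKp : CharP K p]
include hp hFp hKp

theorem nat_pplus (h : Tc m P) {l : ℕ} (hl : 4 ≤ l) (hlt0 : Nat.card F ^ m < Fintype.card K ^ (2 * l - 2))
    (e : Soc P ≃* POmega K (quadFormPlus l K)) : Nat' P := by
  classical
  obtain ⟨d, rfl⟩ : ∃ d, l = d + 2 := ⟨l - 2, by omega⟩
  have hC := h.core
  have hG : Good (plusForm (d + 2) K) := by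
    apply good_of_finite (nondeg_plusForm (d + 2) K)
    rw [Module.finrank_fintype_fun_eq_card, Fintype.card_sum, Fintype.card_fin]
    omega
  rw [← coe_plusForm] at e
  have hfin := hfin (K := K) d
  have hA := amb_plus (F := K) (d + 2)
  have h0 := adm_plus (F := K) (d + 2)
  have hWf : Finite (TypeD.M d).Group := TypeD.finite_W (TypeD.M d).toCoxeterSystem
  have hR := rgd_restrict (rgdD hA h0 (TypeD.M d).toCoxeterSystem (p := p))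
    (E (plusForm (d + 2) K)) (fun x _ => rgD_le _ hA x) (fun i => WittRGDD.nn_mem hA i)
  have hperf : commutator ↥(E (plusForm (d + 2) K)) = ⊤ := Five.commutator_top hG.E_perfect
  have hG1 : G1 (TypeD.M d).toCoxeterSystem (TypeD.isCartan d) (XX d K) = ⊤ := by
    have h1 := G1D_eq_top (wplus (d + 2) K) (MonoidHom.id (E (plusForm (d + 2) K))) Function.surjective_id h0
      (TypeD.M d).toCoxeterSystem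
    rw [← h1]
    congr 1
    funext x
    exact (Subgroup.map_id _).symm
  obtain ⟨Y, _, _, f, φ, n₁, C⟩ := H156.Ppd.exists_cov hC hR hG1 hperf (toPOmega_surjective hG) e
  have hpp : p.Prime := Fact.out
  have rk : ∀ i, ∀ r : ℕ, r.Prime → r ≠ p → NoCE p r ↥(Lv (XX d K) i) := fun i r hr hne => noCE hpp i hr hne
  have hT : ∀ s ∈ (TT d K).comap f, ∀ t ∈ (TT d K).comap f, s * t = t * s :=
    comap_comm C.ker C.cop C.surj hR rk C.gen TT_comm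
  obtain ⟨a, ha⟩ : ∃ a : ℕ+, Fintype.card K = p ^ (a : ℕ) := ⟨(FiniteField.card K p).choose, (FiniteField.card K p).choose_spec.2⟩
  have hpow : ∀ t ∈ (TT d K).comap f, t ^ p ^ (a : ℕ) = t :=
    comap_pow C.ker C.cop C.surj hR rk C.gen TT_comm (TT_pow fun x => by rw [← ha]; exact FiniteField.pow_card x)
  have hD := C.finrank_D hC hT
  obtain ⟨j, hj1, hj⟩ := C.exists_j hC hT a.pos.ne' hpow
  rw [← ha] at hj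
  have hlt : n < 4 * (d + 1) * j := by
    have := h.lt_of hj hlt0
    calc n < 2 * (j * (2 * (d + 2) - 2)) := this
      _ = 2 * (j * (2 * (d + 1))) := rfl
      _ = 4 * (d + 1) * j := by ring
  have hKc : Nat.card K = Nat.card F ^ j := by rw [hj, Nat.card_eq_fintype_card]
  have hIo : ∀ i, i ∉ Jx (TypeD.M d).toCoxeterSystem (TypeD.isCartan d) (fun x => Nodes.RGDLift.lft p f (XX d K x)) (lrep φ) →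
      j ≤ Module.finrank F (Io (TypeD.M d).toCoxeterSystem (TypeD.isCartan d) ((TT d K).comap f)
        (fun x => Nodes.RGDLift.lft p f (XX d K x)) (lrep φ) i) + 1 := by
    intro i hi
    exact C.edge_Io hR hC hi hD (by rw [card_XX, hKc]) (ts i)
  have hnV := C.nontriv hC
  have hdim : Module.finrank F (Fin n → F) = n := by rw [Module.finrank_fintype_fun_eq_card, Fintype.card_fin]
  by_cases hd4 : d = 2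
  · exfalso
    subst hd4
    have h1 := dFour mAD4_eq C.rgd (C.hirr hC) C.gen (C.hnt hC) hD hIo (by rw [hdim]; exact hlt)
    rw [hdim] at h1
    have := h.ge
    omega
  · have hd3 : 3 ≤ d := by omega
    obtain ⟨hJ, hL⟩ := DSg.dAll C.rgd (C.hirr hC) hd3 C.gen (C.hnt hC) hD hIo (by rw [hdim]; exact hlt)
    obtain ⟨σ, θ, hθ⟩ := C.ident hC (ψ := mt (E (plusForm (d + 2) K))) (o := (0 : Fin (d + 2)))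
      (span_E hG (by rw [Fintype.card_sum, Fintype.card_fin]; omega))
      (natAt_D hA (by omega) rfl (TypeD.M d).toCoxeterSystem)
      (fixD (by omega) rfl (TypeD.M d).toCoxeterSystem) (surjD hA rfl) hR hJ hD hL
    obtain ⟨τ, rfl⟩ := ringEquiv_of_surj σ (identify_surj hC hθ)
    have hCj : CjOf (omegaGL (quadFormPlus (d + 2) F)) P := by
      refine cjOf_of (mem_omega_iff'' hG) (map_omega_glm τ fun v => ?_) hθ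
      rw [coe_plusForm]
      exact quadFormPlus_map τ v
    obtain ⟨Q₁, hQ₁, hP, -⟩ := hCj.omega_form (by
      rw [← coe_plusForm]
      exact H925.isND_of_nondeg (nondeg_plusForm (d + 2) F))
    exact Or.inr (Or.inr (Or.inr ⟨Q₁, hQ₁, hP.ge⟩))

end Cfsg.Agent.SM.Ti.Lo
end
end
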